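import Cfsg.Agent.Lib.Spor.SchurCert.PermBridge
import Cfsg.Agent.Lib.Spor.Mults.McLaughlin.Data

/-!
The certificate at the prime 2: a polycyclic sequence of a Sylow subgroup and conjugations killing the tails.
-/

set_option autoImplicit false
set_option maxRecDepth 100000
set_option maxHeartbeats 0

namespace CfsgLib.Spor.Mults.McLaughlin.P2

open CfsgLib.Spor.SchurCert

/-- The Sylow elements. -/
def sw : List (List ℕ) := [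
    [18, 34, 286, 203, 435],
    [18, 291, 213, 516, 513],
    [7, 140, 208, 518, 585],
    [639, 138, 458, 515, 587],
    [560, 292, 83, 7, 586],
    [328, 464, 217, 595, 514],
    [7, 7, 282, 277, 586]]

/-- The conjugating elements. -/
def gw : List (List ℕ) := [
    [418, 463, 210, 351, 435],
    [7, 536, 207, 518, 435],
    [96, 137, 283, 345, 514],
    [7, 538, 213, 519, 514],
    [63, 382, 215, 519, 513]]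

/-- The certificate. -/
def cert : SchurCert.Cert where
  p := 2
  m := 7
  N := 2
  rules := [
    ([0, 0], [4, 5]),
    ([1, 1], [2, 3]),
    ([2, 2], [6]),
    ([3, 3], [5, 6]),
    ([4, 4], [6]),
    ([5, 5], []),
    ([6, 6], []),
    ([1, 0], [0, 1, 2, 3, 4, 5]),
    ([2, 0], [0, 2, 4, 5, 6]),
    ([2, 1], [1, 2, 4]),
    ([3, 0], [0, 3, 4]),
    ([3, 1], [1, 3, 4, 6]),
    ([3, 2], [2, 3, 5]),
    ([4, 0], [0, 4, 6]),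
    ([4, 1], [1, 4, 5, 6]),
    ([4, 2], [2, 4, 6]),
    ([4, 3], [3, 4]),
    ([5, 0], [0, 5, 6]),
    ([5, 1], [1, 5, 6]),
    ([5, 2], [2, 5]),
    ([5, 3], [3, 5]),
    ([5, 4], [4, 5]),
    ([6, 0], [0, 6]),
    ([6, 1], [1, 6]),
    ([6, 2], [2, 6]),
    ([6, 3], [3, 6]),
    ([6, 4], [4, 6]),
    ([6, 5], [5, 6])]
  maps := [
    [([0, 3, 4], [0, 3, 4]), ([1, 3, 4], [1, 3, 4]), ([2, 3, 4], [2, 3, 4]), ([5], [0, 1, 4, 5]), ([6], [2, 3, 4, 6])],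
    [([0, 3, 4], [2, 3, 5]), ([2, 3, 5], [0, 3, 4])],
    [([0, 3], [6]), ([2, 3, 4, 5], [0, 2, 4, 5]), ([6], [0, 3])],
    [([0, 1, 3, 4], [5]), ([2, 3], [0, 1, 2, 4, 5]), ([5], [0, 1, 3, 4]), ([6], [0, 1, 2, 4, 6])],
    [([0, 1], [2, 5]), ([2], [0, 1, 5]), ([3], [2, 4]), ([4], [0, 1, 3, 6]), ([5], [5]), ([6], [5, 6])]]
  overlaps := [
    ([0, 0, 0], [(0, 0), (17, 1), (13, 0), (27, 2), (6, 3)], [(0, 1)]),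
    ([1, 1, 1], [(1, 0), (11, 1), (9, 0), (16, 2), (4, 3), (6, 3)], [(1, 1)]),
    ([1, 1, 0], [(1, 0), (10, 1), (8, 0), (25, 4), (20, 3), (16, 2), (26, 5), (21, 4), (4, 3), (27, 3), (6, 4)], [(7, 1), (7, 0), (18, 5), (14, 4), (11, 3), (9, 2), (1, 1), (12, 2), (2, 1), (25, 1), (27, 2), (26, 3), (21, 2), (25, 4), (20, 3), (16, 2), (3, 1), (26, 2), (21, 1), (27, 3), (5, 2), (6, 2), (4, 1), (6, 1), (27, 3), (5, 2), (6, 2), (15, 1), (25, 3), (16, 2), (26, 4), (4, 3), (6, 3)]),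
    ([1, 0, 0], [(0, 1)], [(7, 0), (17, 5), (13, 4), (10, 3), (8, 2), (7, 1), (0, 0), (18, 1), (14, 0), (27, 3), (5, 2), (6, 2), (15, 1), (25, 3), (16, 2), (26, 4), (4, 3), (6, 3), (19, 3), (12, 2), (2, 1), (25, 1), (27, 2), (27, 3), (5, 2), (26, 2), (27, 3), (6, 4), (20, 3), (16, 2), (3, 1), (26, 2), (21, 1), (27, 3), (5, 2), (26, 2), (4, 1), (6, 1), (27, 2), (6, 3)]),
    ([2, 2, 2], [(2, 0), (24, 0)], [(2, 1)]),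
    ([2, 2, 0], [(2, 0), (22, 0)], [(8, 1), (8, 0), (24, 4), (19, 3), (15, 2), (2, 1), (26, 1), (6, 2), (26, 3), (21, 2), (4, 1), (27, 1), (6, 2), (5, 1)]),
    ([2, 2, 1], [(2, 0), (23, 0)], [(9, 1), (9, 0), (15, 2), (2, 1), (26, 1), (6, 2), (4, 1)]),
    ([2, 1, 1], [(1, 1), (2, 0), (25, 0)], [(9, 0), (14, 2), (9, 1), (1, 0), (12, 1), (2, 0), (25, 0), (27, 1), (26, 2), (21, 1), (26, 3), (21, 2), (4, 1), (27, 1), (6, 2), (5, 1)]),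
    ([2, 1, 0], [(9, 0), (13, 2), (8, 1), (7, 0), (19, 5), (15, 4), (12, 3), (2, 2), (25, 2), (27, 3), (26, 4), (21, 3), (6, 5), (5, 4), (4, 3), (27, 3), (6, 4), (21, 3)], [(7, 1), (8, 0), (23, 4), (18, 3), (14, 2), (9, 1), (4, 3), (27, 3), (6, 4), (5, 3), (6, 3), (2, 2), (25, 2), (26, 3), (27, 4)]),
    ([3, 3, 3], [(3, 0), (25, 1), (20, 0)], [(3, 1)]),
    ([3, 3, 0], [(3, 0), (22, 1), (17, 0), (6, 2)], [(10, 1), (10, 0), (16, 2), (3, 1), (26, 2), (21, 1), (26, 3), (21, 2), (4, 1), (27, 1), (6, 2)]),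
    ([3, 0, 0], [(0, 1)], [(10, 0), (13, 2), (10, 1), (0, 0), (20, 1), (16, 0), (21, 2), (4, 1), (27, 1), (26, 2), (21, 1), (6, 3)]),
    ([3, 3, 1], [(3, 0), (23, 1), (18, 0), (6, 2)], [(11, 1), (11, 0), (25, 3), (16, 2), (3, 1), (26, 2), (21, 1), (6, 3), (21, 2), (4, 1), (27, 1), (6, 2)]),
    ([3, 1, 1], [(1, 1), (12, 0), (20, 2), (3, 1), (27, 2), (5, 1)], [(11, 0), (23, 3), (14, 2), (11, 1), (1, 0), (3, 1), (26, 2), (21, 1), (6, 3), (21, 2), (4, 1), (27, 1), (27, 2), (5, 1), (6, 1)]),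
    ([3, 1, 0], [(11, 0), (22, 3), (13, 2), (10, 1), (7, 0), (20, 5), (16, 4), (3, 3), (26, 4), (21, 3), (27, 5), (5, 4), (26, 4), (4, 3), (6, 3), (6, 4)], [(7, 1), (10, 0), (14, 2), (11, 1), (26, 4), (4, 3), (6, 3), (24, 4), (19, 3), (12, 2), (5, 4), (25, 4), (3, 3), (6, 4), (21, 3), (5, 4)]),
    ([3, 3, 2], [(3, 0), (24, 1), (19, 0)], [(12, 1), (12, 0), (20, 2), (3, 1), (27, 2), (5, 1), (27, 1)]),
    ([3, 2, 0], [(12, 0), (17, 2), (10, 1), (8, 0), (25, 4), (20, 3), (16, 2), (26, 5), (21, 4), (4, 3), (27, 3), (6, 4), (5, 3)], [(8, 1), (10, 0), (15, 2), (12, 1), (21, 3), (26, 5), (21, 4), (4, 3), (27, 3), (6, 4), (5, 3)]),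
    ([4, 4, 4], [(4, 0), (26, 0)], [(4, 1)])]
  fuses := [
    ⟨0, [4, 0], [0, 4], [(22, 0), (25, 1), (26, 2)], [], [(22, 3), (13, 2), (10, 1), (8, 0), (25, 4), (20, 3), (16, 2), (26, 5), (21, 4), (4, 3), (27, 3), (6, 4), (21, 3), (6, 5), (20, 4), (16, 3), (3, 2), (26, 3), (21, 2), (27, 4), (5, 3), (26, 3), (4, 2), (6, 2)], [(15, 2), (12, 1), (21, 3), (25, 5), (20, 4), (16, 3), (3, 2), (26, 3), (21, 2), (27, 4), (5, 3), (6, 3), (4, 2), (6, 2)]⟩,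
    ⟨0, [3, 3], [], [(5, 0)], [], [(17, 3), (13, 2), (7, 1), (0, 0), (18, 1), (14, 0), (27, 3), (5, 2), (6, 2), (15, 1), (25, 3), (16, 2), (26, 4), (4, 3), (6, 3), (21, 3), (27, 5), (5, 4), (6, 4), (14, 3), (11, 2), (9, 1), (1, 0), (12, 1), (2, 0), (25, 0), (27, 1), (26, 2), (21, 1), (25, 3), (20, 2), (16, 1), (3, 0), (26, 1), (21, 0), (27, 2), (5, 1), (6, 1), (4, 0), (6, 0), (26, 2), (21, 1), (4, 0), (27, 0), (6, 1), (5, 0)], []⟩,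
    ⟨1, [0, 0], [], [(13, 2), (10, 1), (0, 0), (20, 1), (16, 0), (21, 2), (4, 1), (27, 1), (26, 2), (21, 1), (6, 3), (20, 2), (16, 1), (3, 0), (26, 1), (21, 0), (27, 2), (5, 1), (26, 1), (4, 0), (6, 0)], [], [(19, 2), (12, 1), (2, 0), (25, 0), (27, 1), (27, 2), (5, 1), (25, 1), (3, 0), (6, 1), (5, 0)], []⟩,
    ⟨2, [0, 0], [], [(10, 1), (0, 0), (20, 1), (16, 0), (21, 2), (4, 1), (27, 1), (25, 2), (20, 1), (3, 0), (27, 1), (5, 0), (6, 0)], [], [(6, 0)], []⟩,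
    ⟨3, [0, 0], [], [(13, 3), (10, 2), (7, 1), (0, 0), (18, 1), (14, 0), (27, 3), (5, 2), (6, 2), (15, 1), (25, 3), (16, 2), (26, 4), (4, 3), (6, 3), (20, 3), (3, 2), (27, 3), (5, 2), (26, 2), (26, 3), (4, 2), (6, 2), (23, 2), (9, 1), (1, 0), (12, 1), (2, 0), (25, 0), (27, 1), (26, 2), (21, 1), (6, 3), (20, 2), (16, 1), (3, 0), (26, 1), (21, 0), (27, 2), (5, 1), (26, 1), (4, 0), (6, 0)], [], [(5, 0)], []⟩,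
    ⟨4, [0, 0], [4, 5], [(7, 1), (0, 0), (18, 1), (14, 0), (27, 3), (5, 2), (6, 2), (15, 1), (25, 3), (16, 2), (26, 4), (4, 3), (6, 3), (18, 3), (11, 2), (9, 1), (1, 0), (12, 1), (2, 0), (25, 0), (27, 1), (26, 2), (21, 1), (25, 3), (20, 2), (16, 1), (3, 0), (26, 1), (21, 0), (27, 2), (5, 1), (6, 1), (4, 0), (6, 0)], [], [(19, 1), (2, 0), (27, 0), (27, 1), (5, 0)], [(5, 0)]⟩,
    ⟨4, [3, 0], [0, 3, 4], [(13, 0), (23, 2), (14, 1), (6, 4)], [], [(24, 3), (12, 2), (27, 5), (5, 4)], [(17, 1), (8, 0), (27, 4), (5, 3), (6, 3), (14, 2), (9, 1), (4, 3), (27, 3), (6, 4), (20, 3), (27, 5), (5, 4)]⟩,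
    ⟨4, [1, 1], [5], [(2, 0)], [], [(17, 2), (7, 1), (0, 0), (18, 1), (14, 0), (27, 3), (5, 2), (6, 2), (15, 1), (25, 3), (16, 2), (26, 4), (4, 3), (6, 3), (5, 3), (23, 3), (11, 2), (9, 1), (1, 0), (12, 1), (2, 0), (25, 0), (27, 1), (26, 2), (21, 1), (25, 3), (20, 2), (16, 1), (3, 0), (26, 1), (21, 0), (27, 2), (5, 1), (6, 1), (4, 0), (6, 0), (27, 0)], []⟩]
  adj := [
    [],
    [],
    [(1, 1)],
    [],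
    [(0, 1), (2, 1), (3, 1)],
    [(2, 1), (3, 1)],
    [(2, 1)]]
  base := []
  dense := [
    [0, 0, 0, 0, 0, 0, 1, 0, 0, 0, 0, 0, 0, 1, 0, 0, 0, 1, 0, 0, 0, 0, 0, 0, 0, 0, 0, 1],
    [0, 0, 0, 0, 1, 0, 1, 0, 0, 1, 0, 1, 0, 0, 0, 0, 1],
    [0, 0, 1, 1, 1, 0, 1, 0, 1, 1, 1, 1, 1, 0, 1, 1, 1, 0, 1, 0, 0, 1],
    [0, 0, 1, 1, 0, 1, 1, 0, 1, 0, 1, 0, 1, 1, 1, 1, 0, 1, 1, 1, 1, 1],
    [0, 0, 0, 0, 0, 0, 0, 0, 0, 0, 0, 0, 0, 0, 0, 0, 0, 0, 0, 0, 0, 0, 0, 0, 1],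
    [0, 0, 0, 0, 1, 1, 0, 0, 0, 0, 0, 0, 0, 0, 0, 1, 0, 0, 0, 1, 0, 1, 1, 0, 1, 0, 0, 1],
    [0, 0, 0, 0, 1, 0, 1, 0, 0, 0, 0, 0, 0, 0, 0, 1, 0, 0, 0, 0, 0, 0, 0, 1, 0, 0, 1],
    [0, 0, 0, 0, 1, 1, 1, 0, 0, 0, 0, 0, 1, 0, 1],
    [0, 0, 0, 0, 0, 0, 0, 0, 0, 0, 0, 0, 1, 1, 1, 1, 0, 0, 1, 1, 0, 0, 0, 1],
    [0, 0, 0, 0, 0, 0, 0, 0, 0, 0, 0, 0, 0, 0, 0, 0, 0, 0, 0, 0, 1, 0, 0, 0, 0, 1],
    [0, 0, 0, 0, 1, 0, 0, 0, 0, 0, 0, 0, 0, 0, 0, 0, 1, 1, 0, 0, 0, 0, 1, 0, 0, 0, 0, 1],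
    [0, 0, 0, 0, 1, 0, 1, 0, 0, 0, 0, 0, 0, 1, 0, 0, 1, 0, 0, 0, 1, 0, 0, 0, 0, 0, 1, 1],
    [0, 0, 0, 0, 1, 0, 1, 0, 0, 0, 0, 0, 0, 0, 0, 0, 1, 0, 1, 0, 0, 0, 0, 1, 0, 1, 1, 1],
    [0, 0, 0, 0, 1, 0, 0, 0, 0, 0, 0, 0, 1, 0, 1, 0, 0, 0, 0, 0, 1, 0, 0, 1, 0, 0, 1, 1],
    [0, 0, 0, 0, 0, 1, 0, 0, 0, 0, 0, 0, 1, 1, 1, 0, 1, 0, 0, 1, 1, 0, 1, 0, 1, 1, 1, 1],
    [0, 0, 0, 0, 0, 1, 0, 0, 0, 0, 0, 0, 0, 0, 0, 0, 0, 0, 0, 1, 1, 0, 0, 0, 1],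
    [0, 0, 0, 0, 0, 0, 0, 0, 0, 0, 0, 0, 0, 0, 0, 1, 1, 1, 0, 0, 1, 1, 0, 0, 0, 1],
    [0, 0, 0, 0, 0, 0, 0, 0, 0, 0, 0, 0, 0, 0, 0, 0, 0, 0, 0, 0, 0, 0, 0, 0, 0, 0, 1],
    [0, 0, 0, 0, 1, 0, 1, 0, 1, 0, 1, 0, 1, 1, 0, 1, 1, 0, 0, 0, 1, 1, 0, 0, 0, 1, 1, 1],
    [1, 1, 1, 1, 1, 1, 0, 1, 0, 1, 0, 1, 1, 1, 0, 1, 0, 1, 1, 0, 1, 0, 0, 0, 0, 1, 0, 1],
    [1, 0, 1, 0, 0, 1, 1, 0, 0, 0, 1, 0, 1, 1, 0, 0, 0, 0, 0, 1, 0, 1, 0, 0, 0, 0, 1],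
    [1, 0, 0, 1, 1, 1, 0, 0, 0, 0, 1, 0, 0, 0, 0, 0, 1, 0, 0, 0, 0, 1, 0, 0, 0, 1],
    [1, 1, 1, 0, 1, 0, 1, 1, 0, 1, 1, 0, 1, 1, 1, 1, 0, 0, 1, 0, 0, 0, 0, 1],
    [1, 1, 0, 1, 0, 0, 0, 1, 0, 1, 0, 1, 1, 0, 1, 1, 0, 0, 0, 1, 1, 0, 0, 0, 0, 1, 1, 1, 0, 0, 0, 0, 0, 0, 0, 0, 0, 0, 0, 0, 0, 0, 0, 0, 0, 0, 0, 0, 0, 0, 0, 0, 0, 0, 0, 0, 0, 0, 0, 0, 1, 1],
    [0, 0, 0, 0, 1, 1, 1, 0, 1, 1, 0, 0, 1, 1, 0, 0, 0, 1, 0, 0, 1, 0, 0, 1, 1, 0, 0, 0, 0, 0, 0, 0, 0, 0, 0, 0, 0, 0, 0, 0, 0, 0, 0, 0, 0, 0, 0, 0, 0, 0, 0, 0, 0, 0, 0, 0, 0, 0, 0, 0, 1],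
    [1, 1, 0, 1, 0, 1, 0, 1, 0, 1, 0, 1, 1, 0, 1, 1, 0, 1, 1, 0, 1, 0, 0, 1, 0, 1, 1, 0, 0, 0, 0, 0, 0, 0, 0, 0, 0, 0, 0, 0, 0, 0, 0, 0, 0, 0, 0, 0, 0, 0, 0, 0, 0, 0, 0, 0, 0, 0, 0, 0, 0, 1]]
  tgt := [
    ([], []),
    ([], []),
    ([], []),
    ([], []),
    ([], [(0, 1), (2, 1), (3, 1), (7, 1), (9, 1), (11, 1), (12, 1), (15, 1), (16, 1), (18, 1), (19, 1), (20, 1), (21, 1), (22, 1), (23, 1), (24, 1), (25, 1)]),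
    ([], [(1, 1), (2, 1), (3, 1), (4, 1), (5, 1), (7, 1), (14, 1), (15, 1), (16, 1), (17, 1)]),
    ([], [(0, 1), (4, 1), (5, 1), (6, 1), (7, 1), (8, 1), (9, 1), (11, 1), (12, 1), (13, 1), (14, 1), (15, 1), (16, 1), (17, 1)]),
    ([], [(0, 1), (1, 1), (4, 1), (6, 1), (9, 1), (11, 1), (12, 1), (15, 1), (19, 1), (20, 1), (21, 1)]),
    ([], [(3, 1), (5, 1), (8, 1), (9, 1), (11, 1), (13, 1), (14, 1), (16, 1), (17, 1), (21, 1)]),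
    ([], [(2, 1), (4, 1), (7, 1), (8, 1), (15, 1), (16, 1), (17, 1), (18, 1), (19, 1), (21, 1), (22, 1)]),
    ([], [(0, 1), (2, 1), (4, 1), (5, 1), (8, 1), (10, 1), (11, 1), (12, 1), (13, 1), (15, 1), (16, 1), (17, 1), (19, 1), (21, 1), (22, 1), (23, 1), (24, 1), (25, 1)]),
    ([], [(2, 1), (3, 1), (5, 1), (7, 1), (8, 1), (11, 1), (13, 1), (14, 1), (15, 1), (16, 1), (18, 1), (21, 1), (23, 1), (24, 1), (25, 1)]),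
    ([], [(0, 1), (4, 1), (7, 1), (10, 1), (11, 1), (14, 1), (17, 1), (20, 1), (21, 1)]),
    ([], [(0, 1), (2, 1), (9, 1), (10, 1), (13, 1), (14, 1), (16, 1), (19, 1), (22, 1), (23, 1), (24, 1), (25, 1)]),
    ([], [(0, 1), (1, 1), (4, 1), (6, 1), (7, 1), (8, 1), (10, 1), (11, 1), (13, 1), (14, 1), (15, 1), (16, 1), (17, 1), (18, 1), (19, 1), (22, 1), (23, 1), (24, 1), (25, 1)]),
    ([], [(2, 1), (3, 1), (6, 1), (7, 1), (10, 1), (11, 1), (12, 1), (13, 1), (14, 1), (16, 1), (17, 1), (18, 1), (19, 1), (20, 1), (21, 1), (22, 1), (23, 1), (24, 1), (25, 1)]),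
    ([], [(1, 1), (2, 1), (6, 1), (8, 1), (11, 1), (18, 1), (20, 1), (21, 1)]),
    ([], [(1, 1), (3, 1), (5, 1), (6, 1), (7, 1), (8, 1), (10, 1), (11, 1), (12, 1), (17, 1), (19, 1), (22, 1), (23, 1), (24, 1), (25, 1)]),
    ([], [(0, 1), (2, 1), (4, 1), (5, 1), (6, 1), (7, 1), (8, 1), (13, 1), (14, 1), (17, 1), (19, 1), (22, 1), (23, 1), (24, 1), (25, 1)]),
    ([], [(1, 1), (2, 1), (3, 1), (7, 1), (9, 1), (10, 1), (14, 1), (15, 1), (17, 1)]),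
    ([], [(5, 1), (9, 1), (10, 1), (15, 1), (16, 1)]),
    ([], [(5, 1), (6, 1), (9, 1), (11, 1), (13, 1), (14, 1)]),
    ([], [(1, 1), (2, 1), (3, 1), (4, 1), (5, 1), (9, 1), (11, 1), (16, 1), (17, 1)]),
    ([], [(4, 1), (5, 1), (6, 1), (7, 1), (8, 1), (10, 1), (11, 1), (12, 1), (16, 1), (17, 1)]),
    ([], [(4, 1)]),
    ([], [(5, 1), (10, 1), (15, 1), (16, 1)]),
    ([], [(17, 1)]),
    ([], [(0, 1), (1, 1), (2, 1), (3, 1), (4, 1), (15, 1)])]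

/-- Orbits inside the subgroup. -/
def orbits : List (ℕ × List (ℕ × List ℕ)) := [
    (0, [(0, []), (4, [4]), (15, [3, 4]), (19, [0, 3]), (28, [3]), (40, [3, 4, 5]), (46, [1, 4]), (51, [1, 3, 4, 5]), (58, [1]), (152, [1, 3]), (154, [4, 5]), (174, [0, 4]), (227, [1, 5]), (249, [3, 5]), (254, [5]), (263, [1, 3, 4])]),
    (1, [(1, []), (128, [0, 1, 2, 4]), (129, [2]), (236, [0, 1, 4])]),
    (2, [(2, []), (136, [6])])]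

theorem ident_ok : identPerm 9 CfsgLib.Spor.Mults.McLaughlin.eltRows 643 CfsgLib.Spor.Mults.McLaughlin.basePts cert sw gw = true := by decide +kernel

theorem sub_ok : subPermOK 275 9 CfsgLib.Spor.Mults.McLaughlin.eltRows sw [] orbits = true := by decide +kernel

theorem shape_ok : cert.shapeOK = true := by decide +kernel

theorem lin_ok : cert.linOK = true := by decide +kernel

theorem prod_ok : cert.p ^ cert.m ≤ (orbits.map fun e => e.2.length).prod := by decide +kernel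

end CfsgLib.Spor.Mults.McLaughlin.P2
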