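import Cfsg.Agent.Lib.Spor.SchurCert.PermBridge
import Cfsg.Agent.Lib.Spor.Mults.McLaughlin.Data

/-!
The certificate at the prime 3: a polycyclic sequence of a Sylow subgroup and conjugations killing the tails.
-/

set_option autoImplicit false
set_option maxRecDepth 100000
set_option maxHeartbeats 0

namespace CfsgLib.Spor.Mults.McLaughlin.P3

open CfsgLib.Spor.SchurCert

/-- The Sylow elements. -/
def sw : List (List ℕ) := [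
    [247, 541, 446, 598, 435],
    [167, 297, 359, 277, 588],
    [160, 3, 209, 445, 588],
    [637, 374, 521, 441, 588],
    [481, 225, 354, 445, 513],
    [239, 614, 457, 203, 588]]

/-- The conjugating elements. -/
def gw : List (List ℕ) := [
    [493, 137, 362, 597, 585],
    [320, 121, 209, 589, 7],
    [633, 533, 360, 351, 587],
    [99, 290, 218, 440, 586],
    [148, 221, 606, 439, 435]]

/-- The certificate. -/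
def cert : SchurCert.Cert where
  p := 3
  m := 6
  N := 9
  rules := [
    ([0, 0, 0], [5, 5]),
    ([1, 1, 1], []),
    ([2, 2, 2], []),
    ([3, 3, 3], []),
    ([4, 4, 4], []),
    ([5, 5, 5], []),
    ([1, 0], [0, 1, 2, 2, 3, 3, 5]),
    ([2, 0], [0, 2, 4, 4]),
    ([2, 1], [1, 2, 5, 5]),
    ([3, 0], [0, 3, 4, 5]),
    ([3, 1], [1, 3]),
    ([3, 2], [2, 3]),
    ([4, 0], [0, 4, 5]),
    ([4, 1], [1, 4]),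
    ([4, 2], [2, 4, 5, 5]),
    ([4, 3], [3, 4, 5]),
    ([5, 0], [0, 5]),
    ([5, 1], [1, 5]),
    ([5, 2], [2, 5]),
    ([5, 3], [3, 5]),
    ([5, 4], [4, 5])]
  maps := [
    [([1, 3, 4, 4, 5], [1, 2, 2, 3]), ([2, 4, 4, 5], [2, 2, 4])],
    [([1], [1, 1, 2, 2, 3, 5, 5]), ([2], [4, 5]), ([3], [1, 1, 4]), ([4], [2, 2, 4, 4, 5, 5]), ([5], [5])],
    [([0], [0, 2, 3, 3, 5]), ([1], [1, 1, 5, 5]), ([2], [2, 2]), ([3], [3, 3, 5, 5]), ([4], [4, 4, 5]), ([5], [5])],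
    [([0, 3, 3], [0, 0, 2, 2, 4, 4, 5]), ([2, 3], [0, 0, 2, 3, 3, 4, 4, 5]), ([4], [2, 3, 4]), ([5], [0, 3, 3, 4, 4, 5, 5])],
    [([1, 3, 3, 4, 4, 5], [1, 2, 2, 4, 4]), ([2, 3, 3], [2, 2, 3, 5, 5])]]
  overlaps := [
    ([0, 0, 0, 0], [(0, 0), (16, 1), (16, 0)], [(0, 1)]),
    ([1, 1, 1, 0], [(1, 0)], [(6, 2), (6, 1), (6, 0), (17, 6), (10, 5), (10, 4), (8, 3), (8, 2), (18, 5), (18, 4), (5, 5), (19, 5), (19, 6), (18, 8), (18, 7), (11, 6), (11, 5), (2, 3), (18, 6), (18, 5), (11, 4), (11, 3), (19, 7), (19, 6), (3, 4), (19, 5), (19, 4), (5, 5), (10, 4), (8, 3), (1, 1), (19, 3), (19, 2), (18, 4), (18, 3), (11, 2), (18, 5), (18, 4), (11, 3), (2, 1), (19, 3), (19, 2), (19, 4), (19, 3), (3, 1), (5, 1)]),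
    ([1, 0, 0, 0], [(0, 1)], [(6, 0), (16, 6), (9, 5), (9, 4), (7, 3), (7, 2), (6, 1), (18, 7), (11, 6), (11, 5), (2, 3), (20, 5), (20, 6), (18, 7), (14, 6), (14, 5), (11, 4), (11, 3), (20, 8), (20, 7), (5, 8), (20, 9), (20, 8), (4, 6), (20, 7), (20, 6), (19, 8), (19, 7), (15, 6), (3, 4), (5, 5), (19, 6), (15, 5), (15, 4), (20, 6), (5, 7), (4, 5), (16, 6), (16, 5), (9, 4), (7, 3), (6, 2), (0, 0), (17, 1), (17, 0), (18, 2), (18, 1), (18, 3), (18, 2), (19, 4), (19, 3), (19, 5), (19, 4), (5, 5), (11, 4), (11, 3), (2, 1), (15, 4), (15, 3), (3, 1), (20, 2), (20, 4), (20, 3), (4, 1), (5, 1)]),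
    ([2, 2, 2, 0], [(2, 0)], [(7, 2), (7, 1), (7, 0), (14, 3), (14, 2), (20, 5), (20, 4), (5, 5), (20, 5), (4, 3), (20, 3), (18, 4), (14, 3), (2, 1), (5, 2), (4, 1)]),
    ([2, 0, 0, 0], [(0, 1)], [(7, 0), (12, 3), (12, 2), (7, 1), (4, 3), (20, 3), (16, 5), (16, 4), (12, 3), (7, 2), (0, 0), (18, 1), (18, 0), (20, 2), (20, 1), (20, 3), (20, 2), (20, 4), (20, 3), (4, 1), (5, 1)]),
    ([2, 1, 0], [(8, 0), (16, 3), (16, 2), (7, 1), (6, 0), (18, 6), (11, 5), (11, 4), (2, 2), (20, 4), (20, 5), (5, 6)], [(6, 1), (7, 0), (13, 3), (13, 2), (8, 1), (20, 4), (20, 3), (20, 5), (20, 4), (18, 6), (18, 5), (14, 4), (14, 3), (20, 6), (20, 5), (5, 6), (5, 6), (14, 5), (14, 4), (2, 2), (20, 4), (20, 3), (5, 4), (19, 4), (15, 3), (15, 2), (20, 4), (5, 5), (15, 4), (15, 3), (20, 5), (5, 6)]),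
    ([3, 3, 3, 0], [(3, 0)], [(9, 2), (9, 1), (9, 0), (19, 3), (15, 2), (20, 5), (20, 4), (5, 5), (15, 4), (15, 3), (3, 1), (20, 2), (20, 4), (20, 3), (4, 1), (5, 1)]),
    ([3, 0, 0, 0], [(0, 1)], [(9, 0), (16, 3), (12, 2), (9, 1), (20, 4), (5, 5), (12, 4), (12, 3), (9, 2), (0, 0), (19, 1), (19, 0), (20, 2), (20, 1), (5, 2), (20, 3), (4, 1)]),
    ([3, 1, 0], [(10, 0), (9, 1), (6, 0), (19, 6), (3, 4), (20, 4)], [(6, 1), (9, 0), (17, 3), (13, 2), (10, 1), (18, 4), (14, 3), (11, 2), (5, 5), (14, 4), (11, 3), (19, 7), (19, 6), (15, 5), (5, 7), (15, 6), (3, 4)]),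
    ([3, 3, 3, 2], [(3, 0)], [(11, 2), (11, 1), (11, 0), (3, 1)]),
    ([4, 1, 0], [(13, 0), (12, 1), (6, 0), (20, 6)], [(6, 1), (12, 0), (17, 2), (13, 1), (18, 3), (14, 2), (5, 4), (14, 3), (19, 6), (19, 5), (15, 4), (5, 6), (15, 5)]),
    ([4, 2, 2, 2], [(2, 1)], [(14, 0), (18, 3), (18, 2), (14, 1), (5, 3), (18, 3), (14, 2), (2, 0), (5, 1)])]
  fuses := [
    ⟨0, [0, 0, 0], [], [(17, 4), (13, 3), (13, 2), (10, 1), (19, 5), (15, 4), (15, 3), (20, 5), (5, 6), (4, 4), (17, 5), (13, 4), (10, 3), (10, 2), (1, 0), (19, 3), (15, 2), (3, 0), (20, 2), (20, 1), (20, 3), (20, 2), (4, 0), (5, 0)], [], [(10, 3), (8, 2), (8, 1), (18, 4), (18, 3), (5, 4), (19, 4), (18, 5), (11, 4), (2, 2), (18, 3), (11, 2), (19, 4), (17, 5), (10, 4), (10, 3), (8, 2), (1, 0), (19, 2), (19, 1), (19, 3), (19, 2), (5, 3), (11, 2), (11, 1), (11,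 3), (11, 2), (2, 0), (3, 0)], []⟩,
    ⟨0, [1, 0], [0, 1], [(17, 3), (13, 2), (13, 1), (8, 0), (20, 3), (20, 2), (20, 4), (20, 3), (5, 4), (15, 3), (15, 2), (20, 4), (20, 6), (20, 5), (4, 3), (20, 4), (20, 3), (5, 4)], [(18, 4), (14, 3), (14, 2), (11, 1), (20, 5), (20, 4), (5, 5), (20, 6), (20, 5), (4, 3), (20, 4), (20, 3), (5, 4)], [(13, 2), (8, 1), (8, 0), (18, 3), (18, 2), (5, 3), (20, 3), (18, 4), (14, 3), (2, 1), (5, 2), (14, 1), (19, 4), (19, 3), (15, 2), (5, 4)], [(11, 3), (2, 1), (11, 1)]⟩,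
    ⟨1, [0, 0, 0], [], [(1, 0)], [], [(17, 6), (17, 5), (10, 4), (8, 3), (8, 2), (1, 0), (18, 2), (18, 1), (5, 2), (19, 2), (5, 3), (10, 2), (8, 1), (8, 0), (18, 3), (18, 2), (5, 3), (19, 3), (18, 4), (11, 3), (2, 1), (18, 2), (11, 1), (19, 3), (5, 4), (10, 3), (10, 2), (8, 1), (19, 4), (19, 3), (19, 5), (19, 4), (17, 6), (17, 5), (10, 4), (10, 3), (8, 2), (1, 0), (19, 2), (19, 1), (19, 3), (19, 2), (5, 3), (18, 3), (11, 2), (11, 1), (18, 4), (11, 3), (11, 2), (2, 0), (19, 2), (3, 0), (5, 0)], []⟩,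
    ⟨1, [2, 2, 2], [], [(3, 0)], [], [(13, 2), (1, 0), (13, 0), (13, 2), (13, 1), (13, 3), (13, 2), (1, 0), (4, 0)], []⟩,
    ⟨2, [0, 0, 0], [5, 5], [(0, 0)], [], [(16, 4), (9, 3), (9, 2), (7, 1), (15, 4), (15, 3), (20, 5), (20, 7), (20, 6), (4, 4), (5, 4), (18, 7), (18, 6), (14, 5), (11, 4), (11, 3), (5, 7), (19, 7), (15, 6), (3, 4), (19, 6), (19, 5), (15, 4), (5, 6), (16, 6), (12, 5), (9, 4), (7, 3), (7, 2), (0, 0), (18, 1), (18, 0), (20, 2), (20, 1), (20, 3), (20, 2), (18, 4), (18, 3), (14, 2), (14, 1), (20, 4), (20, 3), (5, 4), (5, 4), (4, 2), (15, 2), (20, 4), (20, 6), (20, 5), (4, 3), (5, 3), (18, 3), (11, 2), (2, 0), (19, 1), (19, 2), (3, 0)], []⟩,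
    ⟨2, [1, 0], [0, 1, 2, 2, 3, 3, 5], [(6, 0)], [], [(16, 3), (16, 2), (6, 1), (6, 0), (17, 6), (10, 5), (10, 4), (8, 3), (8, 2), (18, 5), (18, 4), (5, 5), (19, 5), (19, 6), (18, 8), (18, 7), (11, 6), (11, 5), (2, 3), (18, 6), (18, 5), (11, 4), (11, 3), (19, 7), (19, 6), (3, 4), (19, 5), (19, 4), (5, 5), (18, 6), (18, 5), (11, 4), (19, 7), (19, 6), (19, 8), (19, 7), (3, 5), (5, 5)], [(17, 4), (10, 3), (10, 2), (8, 1), (19, 4), (19, 3), (19, 5), (19, 4), (5, 5), (10, 4), (10, 3), (8, 2), (19, 5), (19, 4), (19, 6), (19, 5), (5, 6), (18, 6), (11, 5), (11, 4), (18, 7), (11, 6), (11, 5), (2, 3), (18, 5), (11, 4), (11, 3), (18, 6), (11, 5), (11, 4), (19, 7), (3, 5), (19, 5), (5, 6), (3, 5), (5, 5)]⟩,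
    ⟨2, [2, 0], [0, 2, 4, 4], [(7, 0)], [], [(7, 1), (7, 0), (14, 3), (14, 2), (20, 5), (20, 4), (5, 5), (20, 5), (4, 3), (20, 3), (18, 4), (14, 3), (2, 1), (5, 2), (15, 1), (19, 3), (15, 2), (5, 4)], [(18, 4), (11, 3), (11, 2), (18, 5), (11, 4), (11, 3), (2, 1), (20, 3), (20, 4), (20, 6), (20, 5), (4, 3), (20, 4), (20, 3), (5, 4)]⟩,
    ⟨2, [3, 0], [0, 3, 4, 5], [(9, 0)], [], [(16, 3), (16, 2), (9, 1), (9, 0), (19, 3), (15, 2), (20, 5), (20, 4), (5, 5), (18, 6), (18, 5), (14, 4), (14, 3), (11, 2), (11, 1), (20, 6), (20, 5), (5, 6), (5, 6), (15, 5), (15, 4), (3, 2), (20, 3), (19, 5), (19, 4), (15, 3), (15, 2), (20, 4), (5, 5)], [(19, 4), (3, 2), (19, 2), (5, 3)]⟩,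
    ⟨2, [4, 0], [0, 4, 5], [(12, 0)], [], [(16, 2), (12, 1), (12, 0), (20, 2), (5, 3), (14, 2), (14, 1), (20, 4), (20, 3), (5, 4), (19, 4), (15, 3), (15, 2), (20, 4), (5, 5), (15, 4), (15, 3), (20, 5), (5, 6)], [(20, 4), (20, 5), (5, 6)]⟩,
    ⟨2, [2, 1], [1, 2, 5, 5], [(8, 0)], [], [(8, 1), (8, 0), (18, 3), (18, 2), (5, 3), (17, 3), (8, 2), (8, 1), (18, 4), (18, 3), (5, 4), (5, 4)], [(18, 3), (18, 2), (18, 4), (18, 3), (5, 4)]⟩,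
    ⟨2, [2, 2, 2], [], [(2, 0)], [], [(2, 0), (2, 0)], []⟩,
    ⟨2, [3, 3, 3], [], [(3, 0)], [], [(19, 3), (19, 2), (3, 0), (19, 1), (19, 0), (5, 1), (19, 1), (19, 2), (3, 0), (5, 0)], []⟩,
    ⟨3, [0, 0, 0], [], [(9, 2), (9, 1), (19, 4), (15, 3), (20, 6), (20, 5), (5, 6), (15, 5), (15, 4), (3, 2), (20, 3), (19, 5), (19, 4), (15, 3), (15, 2), (20, 4), (5, 5), (16, 5), (12, 4), (12, 3), (9, 2), (0, 0), (19, 1), (19, 0), (20, 2), (20, 1), (5, 2), (20, 3), (4, 1), (5, 1), (3, 0)], [], [(16, 6), (12, 5), (12, 4), (7, 3), (7, 2), (0, 0), (18, 1), (18, 0), (20, 2), (20, 1), (20, 3), (20, 2), (18, 4), (18, 3), (14, 2), (14, 1), (20, 4), (20, 3), (5, 4), (5, 4), (4, 2), (20, 4), (4, 2), (5, 2), (7, 1), (7, 0), (14, 3), (14, 2), (20, 5), (20, 4), (5, 5), (20, 5), (4, 3), (20, 3), (18, 4), (14, 3), (2, 1), (5, 2), (14,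 1), (20, 4), (20, 3), (20, 5), (20, 4), (4, 2), (5, 2), (7, 1), (12, 4), (12, 3), (7, 2), (0, 0), (18, 1), (18, 0), (20, 2), (20, 1), (20, 3), (20, 2), (20, 4), (20, 3), (4, 1), (5, 1), (18, 2), (14, 1), (5, 3), (14, 2), (2, 0), (20, 2), (20, 1), (20, 3), (20, 2), (4, 0), (5, 0)], []⟩,
    ⟨4, [1, 0], [0, 1], [(10, 2), (10, 1), (8, 0), (19, 3), (19, 2), (19, 4), (19, 3), (19, 5), (19, 4), (3, 2), (19, 3), (19, 2), (20, 4), (20, 3), (20, 5), (20, 4), (5, 5)], [(18, 5), (14, 4), (14, 3), (11, 2), (11, 1), (20, 6), (20, 5), (5, 6), (19, 7), (19, 6), (15, 5), (15, 4), (3, 2), (20, 3), (5, 4), (19, 4), (15, 3), (15, 2), (20, 4), (5, 5)], [(17, 4), (17, 3), (10, 2), (8, 1), (8, 0), (18, 3), (18, 2), (5, 3), (19, 3), (5, 4), (11, 3), (2, 1), (11, 1)], [(14, 4), (14, 3), (2, 1), (20, 3), (20, 2), (5, 3), (18, 3), (14,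 2), (14, 1), (20, 4), (20, 3), (5, 4), (19, 5), (19, 4), (15, 3), (15, 2), (20, 4), (5, 5), (5, 5)]⟩]
  adj := [
    [(6, 2), (7, 1), (21, 1), (27, 1), (29, 1), (33, 2), (39, 1)],
    [(6, 1), (7, 1), (14, 2), (27, 2), (29, 1)],
    [(6, 3), (8, 2), (27, 8), (29, 8), (37, 7)],
    [(6, 2), (27, 1), (29, 1), (37, 2)],
    [(7, 5)],
    [(8, 5)]]
  base := [
    ([(11, 1)], 3, [(9, 2)])]
  dense := [
    [0, 0, 0, 0, 0, 0, 0, 0, 0, 0, 0, 0, 0, 0, 0, 0, 2],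
    [0, 0, 7, 7, 0, 6, 6, 0, 6, 0, 6, 3, 0, 0, 0, 0, 0, 8, 8, 6],
    [0, 0, 7, 7, 6, 4, 6, 6, 0, 6, 0, 3, 0, 0, 7, 4, 6, 7, 3, 2, 6],
    [0, 0, 0, 0, 7, 7, 0, 6, 0, 0, 0, 0, 0, 0, 6, 0, 0, 0, 8, 0, 5],
    [0, 0, 0, 0, 7, 8, 0, 6, 0, 0, 0, 0, 6, 0, 0, 0, 7, 0, 7, 0, 2],
    [0, 0, 0, 0, 0, 5, 0, 0, 0, 0, 0, 2, 0, 7, 5, 5, 2, 0, 8, 8, 1],
    [0, 0, 0, 0, 8, 7, 0, 0, 0, 6, 0, 0, 0, 0, 0, 6, 0, 0, 0, 8, 4],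
    [0, 0, 0, 0, 8, 7, 0, 0, 0, 6, 0, 0, 6, 0, 0, 0, 8, 0, 0, 7, 5],
    [0, 0, 0, 0, 0, 7, 0, 0, 0, 0, 0, 7, 0, 8, 7, 7, 0, 8, 8, 8, 1],
    [0, 0, 0, 0, 0, 0, 0, 0, 0, 0, 0, 6],
    [0, 0, 0, 0, 0, 7, 0, 0, 0, 0, 0, 0, 0, 0, 7, 7, 0, 8, 8, 7, 1],
    [0, 0, 0, 0, 0, 7, 0, 0, 0, 0, 0, 0, 0, 0, 6, 0, 0, 0, 6],
    [0, 0, 7, 0, 2, 0, 0, 0, 6, 0, 0, 3, 0, 3, 0, 3, 0, 1, 5, 5, 5, 6],
    [0, 0, 0, 0, 0, 6, 0, 0, 8, 0, 0, 1, 0, 1, 5, 1, 0, 1, 5, 7, 2],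
    [0, 8, 7, 8, 0, 3, 0, 0, 3, 0, 3, 3, 0, 0, 0, 0, 0, 5, 1, 6, 0, 0, 0, 0, 0, 0, 0, 6],
    [0, 7, 0, 1, 8, 0, 0, 0, 0, 0, 0, 0, 0, 3, 0, 0, 0, 0, 0, 0, 0, 0, 0, 0, 0, 0, 0, 0, 0, 6],
    [0, 0, 8, 7, 6, 3, 0, 6, 0, 6, 0, 6, 8, 0, 6, 4, 7, 0, 2, 4, 6, 0, 0, 0, 0, 0, 0, 0, 0, 0, 0, 0, 0, 6, 0, 0, 0, 0, 2],
    [0, 0, 0, 0, 0, 1, 8, 0, 0, 0, 2, 3, 0, 0, 0, 0, 7, 0, 5, 0, 0, 0, 0, 0, 0, 0, 0, 0, 0, 0, 0, 0, 0, 0, 0, 2, 2, 0, 1],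
    [0, 0, 0, 0, 0, 7, 0, 8, 0, 0, 0, 4, 0, 0, 6, 7, 0, 0, 1, 8, 2, 0, 0, 0, 0, 0, 0, 0, 0, 0, 0, 0, 0, 0, 0, 0, 0, 2],
    [0, 0, 0, 0, 0, 6, 0, 0, 0, 8, 0, 7, 0, 0, 7, 4, 7, 0, 7, 8, 3, 0, 0, 0, 0, 0, 0, 0, 0, 0, 0, 0, 0, 0, 0, 0, 0, 1, 1],
    [0, 0, 0, 0, 0, 6, 0, 0, 0, 0, 0, 0, 8, 0, 7, 5, 8, 0, 0, 8, 6, 0, 0, 0, 0, 0, 0, 0, 0, 0, 0, 0, 0, 0, 0, 0, 0, 0, 1],
    [0, 0, 0, 0, 0, 7, 0, 0, 6, 0, 0, 0, 0, 0, 0, 0, 0, 8, 0, 0, 0, 0, 0, 0, 0, 0, 0, 0, 0, 0, 0, 0, 0, 0, 0, 0, 0, 0, 2],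
    [0, 0, 8, 0, 0, 0, 0, 0, 0, 0, 0, 0, 0, 0, 0, 0, 0, 0, 0, 0, 0, 0, 0, 0, 0, 0, 0, 0, 0, 0, 0, 0, 0, 0, 0, 6],
    [0, 0, 0, 8, 0, 7, 0, 0, 0, 0, 0, 0, 0, 0, 0, 0, 0, 0, 0, 3, 0, 0, 0, 0, 0, 0, 0, 0, 0, 0, 0, 0, 0, 0, 0, 0, 6],
    [8, 0, 7, 2, 4, 4, 0, 3, 0, 3, 0, 0, 7, 0, 1, 5, 0, 0, 1, 5, 0, 0, 0, 0, 0, 0, 0, 0, 0, 0, 0, 0, 0, 0, 0, 0, 0, 0, 0, 6],
    [0, 0, 0, 0, 0, 0, 0, 0, 8, 0, 1, 5, 0, 0, 2, 7, 0, 7, 7, 6, 5]]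
  tgt := [
    ([(0, 7)], [(0, 1), (1, 4), (4, 6), (5, 2), (6, 7), (7, 3), (11, 8), (12, 5), (13, 1), (14, 2), (15, 8), (16, 7), (20, 4), (24, 8), (25, 6)]),
    ([(0, 6)], [(1, 2), (3, 7), (4, 8), (6, 8), (7, 5), (12, 6), (13, 3), (14, 7), (15, 5), (16, 6), (18, 6), (19, 6), (25, 3)]),
    ([(0, 3)], [(0, 7), (1, 5), (2, 6), (3, 4), (4, 2), (5, 6), (6, 1), (7, 7), (8, 3), (13, 3), (14, 4), (15, 7), (16, 3), (17, 3), (19, 3), (20, 6), (22, 2), (23, 2), (25, 6)]),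
    ([], [(0, 8), (1, 7), (2, 6), (3, 5), (4, 7), (5, 6), (6, 8), (7, 8), (11, 4), (12, 6), (13, 6), (14, 2), (15, 8), (16, 3), (19, 6), (20, 6), (25, 6)]),
    ([(0, 3)], [(0, 4), (1, 7), (2, 5), (3, 5), (4, 7), (6, 2), (8, 3), (10, 7), (12, 3), (13, 3), (16, 6), (18, 6), (19, 6), (25, 3)]),
    ([(0, 3)], [(0, 8), (1, 4), (2, 8), (3, 2), (4, 1), (6, 7), (7, 5), (8, 6), (10, 4), (12, 3), (13, 6), (16, 6), (18, 3), (19, 3), (20, 3), (25, 3)]),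
    ([], []),
    ([], []),
    ([], []),
    ([(0, 7)], [(0, 2), (1, 7), (2, 4), (3, 1), (4, 1), (5, 4), (6, 8), (11, 7), (12, 3), (13, 8), (16, 6), (17, 3), (18, 5), (19, 8), (21, 2), (22, 2), (23, 2), (25, 6)]),
    ([], [(0, 8), (1, 7), (2, 4), (3, 2), (4, 5), (5, 4), (6, 2), (7, 5), (11, 3), (12, 3), (13, 8), (16, 6), (17, 3), (18, 3), (19, 3), (22, 2), (23, 2), (25, 7)]),
    ([(0, 1)], []),
    ([(0, 8)], [(0, 4), (1, 7), (2, 4), (3, 1), (4, 5), (5, 4), (6, 2), (7, 7), (11, 3), (12, 3), (13, 8), (16, 6), (17, 3), (18, 6), (19, 6), (20, 2), (21, 2), (22, 2), (23, 2), (25, 6)]),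
    ([(0, 1)], [(0, 2), (1, 4), (2, 4), (3, 6), (4, 5), (5, 4), (6, 6), (7, 5), (11, 1), (12, 3), (14, 6), (15, 6), (17, 3), (20, 6), (22, 2), (23, 2), (25, 6)]),
    ([(0, 1)], [(0, 7), (1, 8), (2, 7), (3, 6), (4, 8), (5, 8), (6, 6), (7, 2), (11, 7), (12, 3), (13, 7), (14, 3), (15, 3), (16, 3), (20, 3), (25, 6)]),
    ([(0, 5)], [(0, 5), (1, 2), (2, 3), (3, 2), (4, 7), (5, 4), (6, 2), (7, 1), (11, 1), (12, 3), (13, 8), (14, 3), (15, 3), (16, 3), (17, 3), (22, 2), (23, 2)]),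
    ([], [(0, 5)]),
    ([(0, 6)], [(0, 4), (1, 8), (3, 5), (4, 7), (5, 6), (7, 3), (12, 3), (13, 3), (14, 6), (15, 6), (17, 3), (20, 6), (22, 2), (23, 2)]),
    ([], [(0, 2), (1, 3), (3, 1), (4, 5), (7, 3), (11, 7), (12, 3), (16, 6), (20, 6)]),
    ([(0, 3)], [(0, 7), (1, 3), (2, 6), (3, 7), (4, 7), (6, 2), (7, 6), (11, 4), (12, 3), (14, 6), (15, 6), (18, 3), (19, 3), (20, 6)]),
    ([(0, 3)], [(0, 6), (1, 3), (2, 3), (3, 1), (4, 7), (6, 1), (7, 4), (11, 7), (12, 3), (14, 3), (15, 3), (16, 3), (18, 3), (19, 3)])]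

/-- Orbits inside the subgroup. -/
def orbits : List (ℕ × List (ℕ × List ℕ)) := [
    (0, [(0, []), (3, [1, 1]), (8, [0, 0, 3, 5, 5]), (10, [2, 5]), (11, [3, 4]), (15, [4]), (18, [3]), (19, [0, 3, 5, 5]), (20, [0, 5, 5]), (23, [3, 5, 5]), (32, [1]), (37, [0, 3, 3]), (45, [0, 0, 4]), (46, [3, 3, 5]), (48, [0, 4, 4, 5]), (50, [0, 0, 1, 2, 5]), (51, [5, 5]), (53, [0, 3, 4]), (55, [0, 2]), (56, [2, 3]), (57, [0, 0, 4, 4]), (58, [0, 4, 4]), (60, [0, 0, 2, 3]), (71, [0, 0, 2]), (75, [0, 0, 1, 5]), (76, [5]), (84, [0, 0, 3, 3, 5]), (88, [1, 2]), (93, [0, 0, 5]), (100, [0, 2, 3]), (102, [0, 0, 2, 3, 3]), (104, [0, 0, 2, 4]), (106, [0, 0, 1, 1, 5]), (107, [0, 1, 5]), (109, [3, 3]), (111, [3, 5]), (116, [0, 1, 2, 5]), (118, [0, 2, 4]), (123, [0, 0, 1, 2, 4]), (126, [0, 0, 5, 5]), (133, [0, 1]), (142, [0, 0, 2, 3, 4]),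 (145, [2, 4]), (150, [0, 5]), (153, [0]), (155, [0, 1, 2]), (156, [0, 2, 5]), (157, [0, 0, 3, 4]), (160, [2, 3, 4]), (169, [2, 3, 3]), (171, [0, 0, 2, 5]), (175, [0, 3, 3, 5]), (177, [0, 0, 1]), (184, [0, 2, 3, 4]), (191, [1, 1, 5]), (192, [0, 3]), (197, [4, 4]), (199, [2]), (200, [0, 2, 3, 3]), (209, [0, 0, 1, 2]), (214, [0, 1, 1]), (215, [0, 0, 3, 5]), (218, [0, 4]), (220, [0, 1, 1, 5]), (224, [0, 0, 1, 1]), (227, [0, 0]), (228, [1, 4]), (230, [2, 3, 5]), (234, [0, 0, 2, 3, 5]), (240, [0, 0, 3]), (243, [0, 1, 2, 4]), (245, [0, 0, 3, 3]), (255, [1, 2, 5]), (256, [1, 5]), (258, [0, 0, 1, 4]), (259, [1, 2, 4]), (260, [4, 4, 5]), (261, [0, 0, 4, 4, 5]), (265, [0, 2, 3, 5]), (270, [0, 1, 4]), (272, [0, 3, 5])]),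
    (1, [(1, []), (9, [1, 1, 3, 3, 4, 5, 5]), (89, [2, 4, 4]), (108, [2, 2, 4, 5]), (113, [1, 2, 2, 3]), (165, [1, 1, 2, 2, 3, 3, 4, 4, 5]), (208, [1, 1, 2, 3, 3, 5]), (219, [1, 3, 4, 4]), (233, [1, 2, 3, 4, 5])])]

theorem ident_ok : identPerm 9 CfsgLib.Spor.Mults.McLaughlin.eltRows 643 CfsgLib.Spor.Mults.McLaughlin.basePts cert sw gw = true := by decide +kernel

theorem sub_ok : subPermOK 275 9 CfsgLib.Spor.Mults.McLaughlin.eltRows sw [] orbits = true := by decide +kernel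

theorem shape_ok : cert.shapeOK = true := by decide +kernel

theorem lin_ok : cert.linOK = true := by decide +kernel

theorem prod_ok : cert.p ^ cert.m ≤ (orbits.map fun e => e.2.length).prod := by decide +kernel

end CfsgLib.Spor.Mults.McLaughlin.P3
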