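import Cfsg.Agent.Lib.Spor.SchurCert.PermBridge
import Cfsg.Agent.Lib.Spor.Mults.McLaughlin.Data

/-!
The certificate at the prime 5: a polycyclic sequence of a Sylow subgroup and conjugations killing the tails.
-/

set_option autoImplicit false
set_option maxRecDepth 100000
set_option maxHeartbeats 0

namespace CfsgLib.Spor.Mults.McLaughlin.P5

open CfsgLib.Spor.SchurCert

/-- The Sylow elements. -/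
def sw : List (List ℕ) := [
    [57, 291, 365, 351, 585],
    [162, 305, 211, 597, 7],
    [403, 38, 362, 592, 585]]

/-- The conjugating elements. -/
def gw : List (List ℕ) := [
    [329, 138, 289, 275, 585]]

/-- The certificate. -/
def cert : SchurCert.Cert where
  p := 5
  m := 3
  N := 5
  rules := [
    ([0, 0, 0, 0, 0], []),
    ([1, 1, 1, 1, 1], []),
    ([2, 2, 2, 2, 2], []),
    ([1, 0], [0, 1, 2, 2]),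
    ([2, 0], [0, 2]),
    ([2, 1], [1, 2])]
  maps := [
    [([0], [0, 0, 2]), ([1], [1, 1]), ([2], [2, 2, 2, 2])]]
  overlaps := [
    ([1, 1, 1, 1, 1, 0], [(1, 0)], [(3, 4), (3, 3), (3, 2), (3, 1), (3, 0), (5, 3), (5, 2), (5, 6), (5, 5), (5, 4), (5, 3), (2, 4), (5, 4), (5, 7), (5, 6), (5, 5), (1, 1), (2, 1)])]
  fuses := [
    ⟨0, [0, 0, 0, 0, 0], [], [(0, 0)], [], [(4, 2), (4, 3), (4, 5), (4, 4), (0, 0), (4, 1), (4, 0), (4, 3), (4, 2), (4, 1), (4, 4), (4, 3), (4, 2), (4, 6), (4, 5), (4, 4), (4, 3), (4, 7), (4, 6), (4, 5), (4, 4), (0, 0), (2, 0)], []⟩,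
    ⟨0, [2, 0], [0, 2], [(4, 0)], [], [(4, 3), (4, 2), (4, 1), (4, 0), (4, 4), (4, 3), (4, 2), (4, 1), (2, 2)], [(2, 2)]⟩,
    ⟨0, [1, 1, 1, 1, 1], [], [(1, 0)], [], [(1, 0), (1, 0)], []⟩,
    ⟨0, [2, 1], [1, 2], [(5, 0)], [], [(5, 3), (5, 2), (5, 1), (5, 0), (5, 4), (5, 3), (5, 2), (5, 1)], []⟩]
  adj := [
    [],
    [],
    [(3, 3)]]
  base := []
  dense := [
    [0, 0, 3],
    [4, 0, 4],
    [0, 0, 0, 0, 3],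
    [0, 4],
    [0, 0, 0, 0, 0, 3]]
  tgt := [
    ([], [(0, 3), (1, 4)]),
    ([], [(3, 4)]),
    ([], [(0, 2)]),
    ([], []),
    ([], [(2, 2)]),
    ([], [(4, 2)])]

/-- Orbits inside the subgroup. -/
def orbits : List (ℕ × List (ℕ × List ℕ)) := [
    (0, [(0, []), (1, [0, 0, 1, 1, 1, 2, 2, 2]), (3, [0, 0, 0, 1, 1, 1]), (5, [0, 0, 0, 1, 2, 2]), (6, [0, 0, 0, 1, 1, 1, 2]), (14, [0, 0, 0, 0, 2, 2]), (15, [0, 0]), (17, [0, 0, 0, 1, 1, 1, 2, 2, 2]), (19, [0, 1, 1, 2]), (21, [1, 2, 2]), (23, [0, 0, 1, 1, 2]), (25, [1, 1, 1, 1, 2, 2, 2]), (27, [0, 0, 0, 0, 1, 1, 1, 2, 2, 2, 2]), (32, [0, 0, 0, 0, 2]), (34, [0, 2, 2, 2]), (36, [1, 1, 1]), (39, [1, 2]), (41, [0, 0, 1, 2, 2, 2]), (42, [0, 0, 1, 1, 1, 2]), (43, [0, 1, 1, 1, 1]), (46, [0, 0, 1, 1, 1, 1, 2, 2]), (48, [1, 1, 1, 1]), (49, [0, 0, 0, 0, 1,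 2, 2]), (50, [0, 0, 1, 1, 2, 2, 2, 2]), (52, [2, 2]), (55, [0, 2, 2]), (57, [0, 1, 1, 1, 1, 2]), (58, [0, 0, 1, 1, 1]), (59, [0, 1, 1, 1, 1, 2, 2, 2, 2]), (61, [0, 0, 0, 0, 1, 1, 1, 1, 2, 2]), (63, [0, 0, 0, 0, 1, 1, 1, 1, 2]), (65, [1]), (68, [1, 1, 2, 2, 2]), (69, [0, 0, 0, 0, 2, 2, 2]), (71, [0, 1, 1, 2, 2, 2]), (73, [0, 0, 1, 1, 2, 2]), (74, [0, 0, 0]), (75, [0, 0, 0, 2]), (76, [0, 0, 0, 0, 1, 2]), (77, [0, 0, 1, 1, 1, 1, 2]), (78, [0, 0, 0, 0, 1, 1, 1, 1, 2, 2, 2]), (79, [1, 2, 2, 2]), (82, [0, 1, 1, 2, 2, 2, 2]), (83, [0, 0, 0, 0, 1, 1, 2, 2]), (87, [0, 0, 0, 0, 1, 1, 2, 2, 2]), (88, [0, 0, 0, 0, 1, 1, 2, 2, 2, 2]), (89, [0, 1, 1, 1, 2, 2, 2, 2]), (90, [0, 0, 0, 1, 1, 1, 1, 2, 2, 2, 2]), (91, [1, 1, 2, 2, 2, 2]), (96, [0, 0, 1, 1, 2, 2, 2]), (99, [0, 1, 1, 1, 1, 2, 2, 2]), (100, [0, 0, 0,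 0, 1, 2, 2, 2]), (102, [1, 1, 2]), (103, [1, 1, 1, 1, 2]), (105, [0, 0, 0, 2, 2, 2, 2]), (106, [0, 1]), (107, [0, 0, 0, 0, 1, 1, 1, 2, 2]), (111, [0, 0, 0, 1, 1, 1, 1, 2, 2, 2]), (117, [0, 0, 0, 0, 1, 1, 1, 2]), (118, [0, 0, 1, 1, 1, 2, 2, 2, 2]), (120, [0, 2]), (121, [0, 0, 1, 1, 1, 1, 2, 2, 2]), (122, [0, 0, 0, 0, 2, 2, 2, 2]), (124, [0, 0, 0, 0, 1, 1, 1, 1]), (125, [0, 0, 2, 2, 2, 2]), (127, [0, 0, 0, 1, 1, 1, 1, 2, 2]), (128, [0, 0, 0, 0, 1, 1, 1]), (129, [1, 2, 2, 2, 2]), (130, [0, 0, 0, 1, 1, 1, 1, 2]), (131, [0, 0, 0, 1]), (135, [0, 2, 2, 2, 2]), (136, [0, 0, 1, 1]), (138, [0, 1, 1, 1]), (141, [0, 0, 2]), (143, [2, 2, 2, 2]), (144, [1, 1, 2, 2]), (147, [0, 0, 2, 2, 2]), (148, [0, 0, 1, 1, 1, 2, 2]), (149, [0, 0, 0, 0, 1, 2, 2, 2, 2]), (150, [0, 1, 1, 1, 1, 2, 2]), (151, [1, 1, 1, 1, 2, 2,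 2, 2]), (154, [0, 0, 0, 2, 2]), (155, [0, 0, 0, 0]), (156, [0, 0, 0, 1, 1, 2, 2, 2, 2]), (162, [0, 0, 0, 0, 1]), (165, [2]), (168, [0, 0, 0, 0, 1, 1]), (170, [0, 0, 1, 2, 2, 2, 2]), (171, [1, 1, 1, 2]), (173, [0, 1, 2]), (174, [0, 0, 0, 0, 1, 1, 1, 1, 2, 2, 2, 2]), (179, [0, 1, 1, 1, 2, 2]), (181, [0, 0, 0, 0, 1, 1, 2]), (183, [0, 0, 0, 1, 1]), (187, [0, 0, 1, 1, 1, 1, 2, 2, 2, 2]), (192, [2, 2, 2]), (193, [0, 0, 0, 1, 1, 2, 2, 2]), (199, [0, 1, 2, 2]), (204, [1, 1, 1, 1, 2, 2]), (205, [0, 0, 0, 1, 1, 2, 2]), (207, [0, 1, 2, 2, 2]), (209, [0, 0, 1]), (215, [0, 0, 0, 1, 1, 1, 2, 2]), (218, [1, 1, 1, 2, 2]), (221, [0, 0, 0, 0, 1, 1, 1, 2, 2, 2]), (223, [0, 0, 0, 1, 2, 2, 2]), (225, [1, 1, 1, 2, 2, 2]), (229, [1, 1]), (231, [0, 0, 0, 1, 1, 2]), (234, [0, 0, 0, 1, 2]), (237, [0, 0, 2, 2]), (241, [0]),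 (243, [0, 1, 1, 1, 2]), (254, [0, 1, 2, 2, 2, 2]), (257, [0, 0, 1, 2, 2]), (260, [0, 0, 1, 2]), (261, [0, 0, 0, 1, 1, 1, 1]), (262, [0, 1, 1, 1, 2, 2, 2]), (266, [0, 0, 0, 2, 2, 2]), (267, [0, 0, 1, 1, 1, 1]), (268, [0, 1, 1]), (269, [1, 1, 1, 2, 2, 2, 2]), (271, [0, 0, 0, 1, 2, 2, 2, 2]), (272, [0, 0, 0, 1, 1, 1, 2, 2, 2, 2]), (273, [0, 1, 1, 2, 2])])]

theorem ident_ok : identPerm 9 CfsgLib.Spor.Mults.McLaughlin.eltRows 643 CfsgLib.Spor.Mults.McLaughlin.basePts cert sw gw = true := by decide +kernel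

theorem sub_ok : subPermOK 275 9 CfsgLib.Spor.Mults.McLaughlin.eltRows sw [] orbits = true := by decide +kernel

theorem shape_ok : cert.shapeOK = true := by decide +kernel

theorem lin_ok : cert.linOK = true := by decide +kernel

theorem prod_ok : cert.p ^ cert.m ≤ (orbits.map fun e => e.2.length).prod := by decide +kernel

end CfsgLib.Spor.Mults.McLaughlin.P5
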