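/-
Checks of the lifts at a range of points.
-/
import Cfsg.Agent.Lib.Spor.Mults.McLaughlin.Lifts

namespace CfsgLib.Spor.Mults.McLaughlin

open CfsgLib.Spor.TC

set_option maxRecDepth 100000 in
theorem pointRange0 : allFrom (fun c => lifts.pointOK c) 0 1764 = true := by decide +kernel

set_option maxRecDepth 100000 in
theorem pointRange1764 : allFrom (fun c => lifts.pointOK c) 1764 1764 = true := by decide +kernel

set_option maxRecDepth 100000 in
theorem pointRange3528 : allFrom (fun c => lifts.pointOK c) 3528 1764 = true := by decide +kernel

set_option maxRecDepth 100000 in
theorem pointRange5292 : allFrom (fun c => lifts.pointOK c) 5292 1764 = true := by decide +kernel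

set_option maxRecDepth 100000 in
theorem pointRange7056 : allFrom (fun c => lifts.pointOK c) 7056 1764 = true := by decide +kernel

set_option maxRecDepth 100000 in
theorem pointRange8820 : allFrom (fun c => lifts.pointOK c) 8820 1764 = true := by decide +kernel

set_option maxRecDepth 100000 in
theorem pointRange10584 : allFrom (fun c => lifts.pointOK c) 10584 1764 = true := by decide +kernel

set_option maxRecDepth 100000 in
theorem pointRange12348 : allFrom (fun c => lifts.pointOK c) 12348 1764 = true := by decide +kernel

end CfsgLib.Spor.Mults.McLaughlin
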