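/-
Checks of the lifts at a range of points.
-/
import Cfsg.Agent.Lib.Spor.Mults.McLaughlin.Lifts

namespace CfsgLib.Spor.Mults.McLaughlin

open CfsgLib.Spor.TC

set_option maxRecDepth 100000 in
theorem pointRange14112 : allFrom (fun c => lifts.pointOK c) 14112 1764 = true := by decide +kernel

set_option maxRecDepth 100000 in
theorem pointRange15876 : allFrom (fun c => lifts.pointOK c) 15876 1764 = true := by decide +kernel

set_option maxRecDepth 100000 in
theorem pointRange17640 : allFrom (fun c => lifts.pointOK c) 17640 1764 = true := by decide +kernel

set_option maxRecDepth 100000 in
theorem pointRange19404 : allFrom (fun c => lifts.pointOK c) 19404 1764 = true := by decide +kernel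

set_option maxRecDepth 100000 in
theorem pointRange21168 : allFrom (fun c => lifts.pointOK c) 21168 1764 = true := by decide +kernel

set_option maxRecDepth 100000 in
theorem pointRange22932 : allFrom (fun c => lifts.pointOK c) 22932 1764 = true := by decide +kernel

set_option maxRecDepth 100000 in
theorem pointRange24696 : allFrom (fun c => lifts.pointOK c) 24696 1764 = true := by decide +kernel

set_option maxRecDepth 100000 in
theorem pointRange26460 : allFrom (fun c => lifts.pointOK c) 26460 1764 = true := by decide +kernel

end CfsgLib.Spor.Mults.McLaughlin
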