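/-
Checks of the lifts at a range of points.
-/
import Cfsg.Agent.Lib.Spor.Mults.McLaughlin.Lifts

namespace CfsgLib.Spor.Mults.McLaughlin

open CfsgLib.Spor.TC

set_option maxRecDepth 100000 in
theorem pointRange28224 : allFrom (fun c => lifts.pointOK c) 28224 1764 = true := by decide +kernel

set_option maxRecDepth 100000 in
theorem pointRange29988 : allFrom (fun c => lifts.pointOK c) 29988 1764 = true := by decide +kernel

set_option maxRecDepth 100000 in
theorem pointRange31752 : allFrom (fun c => lifts.pointOK c) 31752 1764 = true := by decide +kernel

set_option maxRecDepth 100000 in
theorem pointRange33516 : allFrom (fun c => lifts.pointOK c) 33516 1764 = true := by decide +kernel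

set_option maxRecDepth 100000 in
theorem pointRange35280 : allFrom (fun c => lifts.pointOK c) 35280 1764 = true := by decide +kernel

set_option maxRecDepth 100000 in
theorem pointRange37044 : allFrom (fun c => lifts.pointOK c) 37044 1764 = true := by decide +kernel

set_option maxRecDepth 100000 in
theorem pointRange38808 : allFrom (fun c => lifts.pointOK c) 38808 1764 = true := by decide +kernel

set_option maxRecDepth 100000 in
theorem pointRange40572 : allFrom (fun c => lifts.pointOK c) 40572 1764 = true := by decide +kernel

end CfsgLib.Spor.Mults.McLaughlin
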