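/-
Checks of the lifts at a range of points.
-/
import Cfsg.Agent.Lib.Spor.Mults.McLaughlin.Lifts

namespace CfsgLib.Spor.Mults.McLaughlin

open CfsgLib.Spor.TC

set_option maxRecDepth 100000 in
theorem pointRange42336 : allFrom (fun c => lifts.pointOK c) 42336 1764 = true := by decide +kernel

set_option maxRecDepth 100000 in
theorem pointRange44100 : allFrom (fun c => lifts.pointOK c) 44100 1764 = true := by decide +kernel

set_option maxRecDepth 100000 in
theorem pointRange45864 : allFrom (fun c => lifts.pointOK c) 45864 1764 = true := by decide +kernel

set_option maxRecDepth 100000 in
theorem pointRange47628 : allFrom (fun c => lifts.pointOK c) 47628 1764 = true := by decide +kernel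

set_option maxRecDepth 100000 in
theorem pointRange49392 : allFrom (fun c => lifts.pointOK c) 49392 1764 = true := by decide +kernel

set_option maxRecDepth 100000 in
theorem pointRange51156 : allFrom (fun c => lifts.pointOK c) 51156 1764 = true := by decide +kernel

set_option maxRecDepth 100000 in
theorem pointRange52920 : allFrom (fun c => lifts.pointOK c) 52920 1764 = true := by decide +kernel

set_option maxRecDepth 100000 in
theorem pointRange54684 : allFrom (fun c => lifts.pointOK c) 54684 1764 = true := by decide +kernel

end CfsgLib.Spor.Mults.McLaughlin
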