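/-
Checks of the lifts at a range of points.
-/
import Cfsg.Agent.Lib.Spor.Mults.McLaughlin.Lifts

namespace CfsgLib.Spor.Mults.McLaughlin

open CfsgLib.Spor.TC

set_option maxRecDepth 100000 in
theorem pointRange56448 : allFrom (fun c => lifts.pointOK c) 56448 1764 = true := by decide +kernel

set_option maxRecDepth 100000 in
theorem pointRange58212 : allFrom (fun c => lifts.pointOK c) 58212 1764 = true := by decide +kernel

set_option maxRecDepth 100000 in
theorem pointRange59976 : allFrom (fun c => lifts.pointOK c) 59976 1764 = true := by decide +kernel

set_option maxRecDepth 100000 in
theorem pointRange61740 : allFrom (fun c => lifts.pointOK c) 61740 1764 = true := by decide +kernel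

set_option maxRecDepth 100000 in
theorem pointRange63504 : allFrom (fun c => lifts.pointOK c) 63504 1764 = true := by decide +kernel

set_option maxRecDepth 100000 in
theorem pointRange65268 : allFrom (fun c => lifts.pointOK c) 65268 1557 = true := by decide +kernel

end CfsgLib.Spor.Mults.McLaughlin
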