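/-
Checks of the lifts at a range of points.
-/
import Cfsg.Agent.Lib.Spor.Mults.McLaughlin.Lifts

namespace CfsgLib.Spor.Mults.McLaughlin

open CfsgLib.Spor.TC

set_option maxRecDepth 100000 in
theorem repRange0 : allFrom (fun i => lifts.repOK i) 0 246 = true := by decide +kernel

set_option maxRecDepth 100000 in
theorem repRange246 : allFrom (fun i => lifts.repOK i) 246 246 = true := by decide +kernel

set_option maxRecDepth 100000 in
theorem repRange492 : allFrom (fun i => lifts.repOK i) 492 246 = true := by decide +kernel

set_option maxRecDepth 100000 in
theorem repRange738 : allFrom (fun i => lifts.repOK i) 738 246 = true := by decide +kernel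

set_option maxRecDepth 100000 in
theorem repRange984 : allFrom (fun i => lifts.repOK i) 984 246 = true := by decide +kernel

set_option maxRecDepth 100000 in
theorem repRange1230 : allFrom (fun i => lifts.repOK i) 1230 246 = true := by decide +kernel

set_option maxRecDepth 100000 in
theorem repRange1476 : allFrom (fun i => lifts.repOK i) 1476 246 = true := by decide +kernel

set_option maxRecDepth 100000 in
theorem repRange1722 : allFrom (fun i => lifts.repOK i) 1722 246 = true := by decide +kernel

end CfsgLib.Spor.Mults.McLaughlin
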