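/-
Checks of the lifts at a range of points.
-/
import Cfsg.Agent.Lib.Spor.Mults.McLaughlin.Lifts

namespace CfsgLib.Spor.Mults.McLaughlin

open CfsgLib.Spor.TC

set_option maxRecDepth 100000 in
theorem repRange1968 : allFrom (fun i => lifts.repOK i) 1968 246 = true := by decide +kernel

set_option maxRecDepth 100000 in
theorem repRange2214 : allFrom (fun i => lifts.repOK i) 2214 246 = true := by decide +kernel

set_option maxRecDepth 100000 in
theorem repRange2460 : allFrom (fun i => lifts.repOK i) 2460 246 = true := by decide +kernel

set_option maxRecDepth 100000 in
theorem repRange2706 : allFrom (fun i => lifts.repOK i) 2706 246 = true := by decide +kernel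

set_option maxRecDepth 100000 in
theorem repRange2952 : allFrom (fun i => lifts.repOK i) 2952 246 = true := by decide +kernel

set_option maxRecDepth 100000 in
theorem repRange3198 : allFrom (fun i => lifts.repOK i) 3198 246 = true := by decide +kernel

set_option maxRecDepth 100000 in
theorem repRange3444 : allFrom (fun i => lifts.repOK i) 3444 246 = true := by decide +kernel

set_option maxRecDepth 100000 in
theorem repRange3690 : allFrom (fun i => lifts.repOK i) 3690 246 = true := by decide +kernel

end CfsgLib.Spor.Mults.McLaughlin
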