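/-
Checks of the lifts at a range of points.
-/
import Cfsg.Agent.Lib.Spor.Mults.McLaughlin.Lifts

namespace CfsgLib.Spor.Mults.McLaughlin

open CfsgLib.Spor.TC

set_option maxRecDepth 100000 in
theorem repRange19680 : allFrom (fun i => lifts.repOK i) 19680 246 = true := by decide +kernel

set_option maxRecDepth 100000 in
theorem repRange19926 : allFrom (fun i => lifts.repOK i) 19926 246 = true := by decide +kernel

set_option maxRecDepth 100000 in
theorem repRange20172 : allFrom (fun i => lifts.repOK i) 20172 246 = true := by decide +kernel

set_option maxRecDepth 100000 in
theorem repRange20418 : allFrom (fun i => lifts.repOK i) 20418 246 = true := by decide +kernel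

set_option maxRecDepth 100000 in
theorem repRange20664 : allFrom (fun i => lifts.repOK i) 20664 246 = true := by decide +kernel

set_option maxRecDepth 100000 in
theorem repRange20910 : allFrom (fun i => lifts.repOK i) 20910 246 = true := by decide +kernel

set_option maxRecDepth 100000 in
theorem repRange21156 : allFrom (fun i => lifts.repOK i) 21156 246 = true := by decide +kernel

set_option maxRecDepth 100000 in
theorem repRange21402 : allFrom (fun i => lifts.repOK i) 21402 246 = true := by decide +kernel

end CfsgLib.Spor.Mults.McLaughlin
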