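/-
Checks of the lifts at a range of points.
-/
import Cfsg.Agent.Lib.Spor.Mults.McLaughlin.Lifts

namespace CfsgLib.Spor.Mults.McLaughlin

open CfsgLib.Spor.TC

set_option maxRecDepth 100000 in
theorem repRange21648 : allFrom (fun i => lifts.repOK i) 21648 246 = true := by decide +kernel

set_option maxRecDepth 100000 in
theorem repRange21894 : allFrom (fun i => lifts.repOK i) 21894 246 = true := by decide +kernel

set_option maxRecDepth 100000 in
theorem repRange22140 : allFrom (fun i => lifts.repOK i) 22140 135 = true := by decide +kernel

end CfsgLib.Spor.Mults.McLaughlin
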