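/-
Checks of the lifts at a range of points.
-/
import Cfsg.Agent.Lib.Spor.Mults.McLaughlin.Lifts

namespace CfsgLib.Spor.Mults.McLaughlin

open CfsgLib.Spor.TC

set_option maxRecDepth 100000 in
theorem repRange3936 : allFrom (fun i => lifts.repOK i) 3936 246 = true := by decide +kernel

set_option maxRecDepth 100000 in
theorem repRange4182 : allFrom (fun i => lifts.repOK i) 4182 246 = true := by decide +kernel

set_option maxRecDepth 100000 in
theorem repRange4428 : allFrom (fun i => lifts.repOK i) 4428 246 = true := by decide +kernel

set_option maxRecDepth 100000 in
theorem repRange4674 : allFrom (fun i => lifts.repOK i) 4674 246 = true := by decide +kernel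

set_option maxRecDepth 100000 in
theorem repRange4920 : allFrom (fun i => lifts.repOK i) 4920 246 = true := by decide +kernel

set_option maxRecDepth 100000 in
theorem repRange5166 : allFrom (fun i => lifts.repOK i) 5166 246 = true := by decide +kernel

set_option maxRecDepth 100000 in
theorem repRange5412 : allFrom (fun i => lifts.repOK i) 5412 246 = true := by decide +kernel

set_option maxRecDepth 100000 in
theorem repRange5658 : allFrom (fun i => lifts.repOK i) 5658 246 = true := by decide +kernel

end CfsgLib.Spor.Mults.McLaughlin
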