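/-
Checks of the lifts at a range of points.
-/
import Cfsg.Agent.Lib.Spor.Mults.McLaughlin.Lifts

namespace CfsgLib.Spor.Mults.McLaughlin

open CfsgLib.Spor.TC

set_option maxRecDepth 100000 in
theorem repRange5904 : allFrom (fun i => lifts.repOK i) 5904 246 = true := by decide +kernel

set_option maxRecDepth 100000 in
theorem repRange6150 : allFrom (fun i => lifts.repOK i) 6150 246 = true := by decide +kernel

set_option maxRecDepth 100000 in
theorem repRange6396 : allFrom (fun i => lifts.repOK i) 6396 246 = true := by decide +kernel

set_option maxRecDepth 100000 in
theorem repRange6642 : allFrom (fun i => lifts.repOK i) 6642 246 = true := by decide +kernel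

set_option maxRecDepth 100000 in
theorem repRange6888 : allFrom (fun i => lifts.repOK i) 6888 246 = true := by decide +kernel

set_option maxRecDepth 100000 in
theorem repRange7134 : allFrom (fun i => lifts.repOK i) 7134 246 = true := by decide +kernel

set_option maxRecDepth 100000 in
theorem repRange7380 : allFrom (fun i => lifts.repOK i) 7380 246 = true := by decide +kernel

set_option maxRecDepth 100000 in
theorem repRange7626 : allFrom (fun i => lifts.repOK i) 7626 246 = true := by decide +kernel

end CfsgLib.Spor.Mults.McLaughlin
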