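/-
Checks of the lifts at a range of points.
-/
import Cfsg.Agent.Lib.Spor.Mults.McLaughlin.Lifts

namespace CfsgLib.Spor.Mults.McLaughlin

open CfsgLib.Spor.TC

set_option maxRecDepth 100000 in
theorem repRange7872 : allFrom (fun i => lifts.repOK i) 7872 246 = true := by decide +kernel

set_option maxRecDepth 100000 in
theorem repRange8118 : allFrom (fun i => lifts.repOK i) 8118 246 = true := by decide +kernel

set_option maxRecDepth 100000 in
theorem repRange8364 : allFrom (fun i => lifts.repOK i) 8364 246 = true := by decide +kernel

set_option maxRecDepth 100000 in
theorem repRange8610 : allFrom (fun i => lifts.repOK i) 8610 246 = true := by decide +kernel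

set_option maxRecDepth 100000 in
theorem repRange8856 : allFrom (fun i => lifts.repOK i) 8856 246 = true := by decide +kernel

set_option maxRecDepth 100000 in
theorem repRange9102 : allFrom (fun i => lifts.repOK i) 9102 246 = true := by decide +kernel

set_option maxRecDepth 100000 in
theorem repRange9348 : allFrom (fun i => lifts.repOK i) 9348 246 = true := by decide +kernel

set_option maxRecDepth 100000 in
theorem repRange9594 : allFrom (fun i => lifts.repOK i) 9594 246 = true := by decide +kernel

end CfsgLib.Spor.Mults.McLaughlin
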