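/-
Checks of the lifts at a range of points.
-/
import Cfsg.Agent.Lib.Spor.Mults.McLaughlin.Lifts

namespace CfsgLib.Spor.Mults.McLaughlin

open CfsgLib.Spor.TC

set_option maxRecDepth 100000 in
theorem repRange9840 : allFrom (fun i => lifts.repOK i) 9840 246 = true := by decide +kernel

set_option maxRecDepth 100000 in
theorem repRange10086 : allFrom (fun i => lifts.repOK i) 10086 246 = true := by decide +kernel

set_option maxRecDepth 100000 in
theorem repRange10332 : allFrom (fun i => lifts.repOK i) 10332 246 = true := by decide +kernel

set_option maxRecDepth 100000 in
theorem repRange10578 : allFrom (fun i => lifts.repOK i) 10578 246 = true := by decide +kernel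

set_option maxRecDepth 100000 in
theorem repRange10824 : allFrom (fun i => lifts.repOK i) 10824 246 = true := by decide +kernel

set_option maxRecDepth 100000 in
theorem repRange11070 : allFrom (fun i => lifts.repOK i) 11070 246 = true := by decide +kernel

set_option maxRecDepth 100000 in
theorem repRange11316 : allFrom (fun i => lifts.repOK i) 11316 246 = true := by decide +kernel

set_option maxRecDepth 100000 in
theorem repRange11562 : allFrom (fun i => lifts.repOK i) 11562 246 = true := by decide +kernel

end CfsgLib.Spor.Mults.McLaughlin
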