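/-
Checks of the lifts at a range of points.
-/
import Cfsg.Agent.Lib.Spor.Mults.McLaughlin.Lifts

namespace CfsgLib.Spor.Mults.McLaughlin

open CfsgLib.Spor.TC

set_option maxRecDepth 100000 in
theorem repRange11808 : allFrom (fun i => lifts.repOK i) 11808 246 = true := by decide +kernel

set_option maxRecDepth 100000 in
theorem repRange12054 : allFrom (fun i => lifts.repOK i) 12054 246 = true := by decide +kernel

set_option maxRecDepth 100000 in
theorem repRange12300 : allFrom (fun i => lifts.repOK i) 12300 246 = true := by decide +kernel

set_option maxRecDepth 100000 in
theorem repRange12546 : allFrom (fun i => lifts.repOK i) 12546 246 = true := by decide +kernel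

set_option maxRecDepth 100000 in
theorem repRange12792 : allFrom (fun i => lifts.repOK i) 12792 246 = true := by decide +kernel

set_option maxRecDepth 100000 in
theorem repRange13038 : allFrom (fun i => lifts.repOK i) 13038 246 = true := by decide +kernel

set_option maxRecDepth 100000 in
theorem repRange13284 : allFrom (fun i => lifts.repOK i) 13284 246 = true := by decide +kernel

set_option maxRecDepth 100000 in
theorem repRange13530 : allFrom (fun i => lifts.repOK i) 13530 246 = true := by decide +kernel

end CfsgLib.Spor.Mults.McLaughlin
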