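/-
Checks of the lifts at a range of points.
-/
import Cfsg.Agent.Lib.Spor.Mults.McLaughlin.Lifts

namespace CfsgLib.Spor.Mults.McLaughlin

open CfsgLib.Spor.TC

set_option maxRecDepth 100000 in
theorem repRange13776 : allFrom (fun i => lifts.repOK i) 13776 246 = true := by decide +kernel

set_option maxRecDepth 100000 in
theorem repRange14022 : allFrom (fun i => lifts.repOK i) 14022 246 = true := by decide +kernel

set_option maxRecDepth 100000 in
theorem repRange14268 : allFrom (fun i => lifts.repOK i) 14268 246 = true := by decide +kernel

set_option maxRecDepth 100000 in
theorem repRange14514 : allFrom (fun i => lifts.repOK i) 14514 246 = true := by decide +kernel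

set_option maxRecDepth 100000 in
theorem repRange14760 : allFrom (fun i => lifts.repOK i) 14760 246 = true := by decide +kernel

set_option maxRecDepth 100000 in
theorem repRange15006 : allFrom (fun i => lifts.repOK i) 15006 246 = true := by decide +kernel

set_option maxRecDepth 100000 in
theorem repRange15252 : allFrom (fun i => lifts.repOK i) 15252 246 = true := by decide +kernel

set_option maxRecDepth 100000 in
theorem repRange15498 : allFrom (fun i => lifts.repOK i) 15498 246 = true := by decide +kernel

end CfsgLib.Spor.Mults.McLaughlin
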