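/-
Checks of the lifts at a range of points.
-/
import Cfsg.Agent.Lib.Spor.Mults.McLaughlin.Lifts

namespace CfsgLib.Spor.Mults.McLaughlin

open CfsgLib.Spor.TC

set_option maxRecDepth 100000 in
theorem repRange15744 : allFrom (fun i => lifts.repOK i) 15744 246 = true := by decide +kernel

set_option maxRecDepth 100000 in
theorem repRange15990 : allFrom (fun i => lifts.repOK i) 15990 246 = true := by decide +kernel

set_option maxRecDepth 100000 in
theorem repRange16236 : allFrom (fun i => lifts.repOK i) 16236 246 = true := by decide +kernel

set_option maxRecDepth 100000 in
theorem repRange16482 : allFrom (fun i => lifts.repOK i) 16482 246 = true := by decide +kernel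

set_option maxRecDepth 100000 in
theorem repRange16728 : allFrom (fun i => lifts.repOK i) 16728 246 = true := by decide +kernel

set_option maxRecDepth 100000 in
theorem repRange16974 : allFrom (fun i => lifts.repOK i) 16974 246 = true := by decide +kernel

set_option maxRecDepth 100000 in
theorem repRange17220 : allFrom (fun i => lifts.repOK i) 17220 246 = true := by decide +kernel

set_option maxRecDepth 100000 in
theorem repRange17466 : allFrom (fun i => lifts.repOK i) 17466 246 = true := by decide +kernel

end CfsgLib.Spor.Mults.McLaughlin
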