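/-
Checks of the lifts at a range of points.
-/
import Cfsg.Agent.Lib.Spor.Mults.McLaughlin.Lifts

namespace CfsgLib.Spor.Mults.McLaughlin

open CfsgLib.Spor.TC

set_option maxRecDepth 100000 in
theorem repRange17712 : allFrom (fun i => lifts.repOK i) 17712 246 = true := by decide +kernel

set_option maxRecDepth 100000 in
theorem repRange17958 : allFrom (fun i => lifts.repOK i) 17958 246 = true := by decide +kernel

set_option maxRecDepth 100000 in
theorem repRange18204 : allFrom (fun i => lifts.repOK i) 18204 246 = true := by decide +kernel

set_option maxRecDepth 100000 in
theorem repRange18450 : allFrom (fun i => lifts.repOK i) 18450 246 = true := by decide +kernel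

set_option maxRecDepth 100000 in
theorem repRange18696 : allFrom (fun i => lifts.repOK i) 18696 246 = true := by decide +kernel

set_option maxRecDepth 100000 in
theorem repRange18942 : allFrom (fun i => lifts.repOK i) 18942 246 = true := by decide +kernel

set_option maxRecDepth 100000 in
theorem repRange19188 : allFrom (fun i => lifts.repOK i) 19188 246 = true := by decide +kernel

set_option maxRecDepth 100000 in
theorem repRange19434 : allFrom (fun i => lifts.repOK i) 19434 246 = true := by decide +kernel

end CfsgLib.Spor.Mults.McLaughlin
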