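/-
Relators on involutions generating McL, and on initial segments of them.
-/
import Cfsg.Agent.Lib.Spor.TC.Word

namespace CfsgLib.Spor.Mults.McLaughlin

open CfsgLib.Spor.TC

/-- Relators on the first 2 generators. -/
def rels2 : List PowRel := [([0, 1], 6)]

/-- Relators on the first 3 generators. -/
def rels3 : List PowRel := [([0, 1], 6),
  ([1, 2], 5),
  ([0, 1, 2, 1], 3),
  ([0, 2, 1, 2, 1, 2], 3),
  ([0, 1, 2], 7)]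

/-- Relators on the first 4 generators. -/
def rels4 : List PowRel := [([0, 1], 6),
  ([1, 2], 5),
  ([0, 1, 2, 1], 3),
  ([0, 2, 1, 2, 1, 2], 3),
  ([0, 1, 2], 7),
  ([1, 3], 2),
  ([0, 3], 3),
  ([2, 3], 5),
  ([0, 2, 1, 3, 0, 3, 1, 2], 2),
  ([0, 2, 1, 3, 0, 2, 3, 1, 2], 2),
  ([0, 1, 0, 1, 2, 0, 3], 3)]

/-- Relators on the first 5 generators. -/
def rels5 : List PowRel := [([0, 1], 6),
  ([1, 2], 5),
  ([0, 1, 2, 1], 3),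
  ([0, 2, 1, 2, 1, 2], 3),
  ([0, 1, 2], 7),
  ([1, 3], 2),
  ([0, 3], 3),
  ([2, 3], 5),
  ([0, 2, 1, 3, 0, 3, 1, 2], 2),
  ([0, 2, 1, 3, 0, 2, 3, 1, 2], 2),
  ([0, 1, 0, 1, 2, 0, 3], 3),
  ([3, 4], 3),
  ([0, 1, 4, 1, 0, 1, 4, 1, 4], 1),
  ([0, 2, 0, 3, 4, 2, 4], 2),
  ([0, 2, 4, 0, 3, 2, 4], 2),
  ([0, 1, 0, 1, 4, 0, 4, 3], 2),
  ([0, 1, 0, 3, 2, 4, 2, 3], 2)]

end CfsgLib.Spor.Mults.McLaughlin
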