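/-
The presented group is no larger than McL.
-/
import Cfsg.Agent.Lib.Spor.Mults.Sat
import Cfsg.Agent.Lib.Spor.Mults.McLaughlin.Rels
import Cfsg.Agent.Lib.Spor.Mults.McLaughlin.Enum2.All
import Cfsg.Agent.Lib.Spor.Mults.McLaughlin.Enum3.All
import Cfsg.Agent.Lib.Spor.Mults.McLaughlin.Enum4.All
import Cfsg.Agent.Lib.Spor.Mults.McLaughlin.Enum5.All

namespace CfsgLib.Spor.Mults.McLaughlin

open CfsgLib.Spor.TC

theorem index2 : (presSub 2 rels2 []).index ≠ 0 ∧ (presSub 2 rels2 []).index ≤ 12 :=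
  Cert.presSub_index_le_wide Enum2.steps_ok Enum2.rows_ok Enum2.row_zero (by norm_num) rfl (by decide +kernel)
    (by decide +kernel)

theorem card2 : Nat.card (Pres 2 rels2) ≠ 0 ∧ Nat.card (Pres 2 rels2) ≤ 12 :=
  card_le_wide_bot index2

theorem index3 : (presSub 3 rels3 [0, 1]).index ≠ 0 ∧ (presSub 3 rels3 [0, 1]).index ≤ 210 :=
  Cert.presSub_index_le_wide Enum3.steps_ok Enum3.rows_ok Enum3.row_zero (by norm_num) rfl (by decide +kernel)
    (by decide +kernel)

theorem card3 : Nat.card (Pres 3 rels3) ≠ 0 ∧ Nat.card (Pres 3 rels3) ≤ 2520 :=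
  card_le_of_index_le index3 (rels' := rels2) (l := 2) (by decide) (by decide +kernel) card2

theorem index4 : (presSub 4 rels4 [0, 1, 2]).index ≠ 0 ∧ (presSub 4 rels4 [0, 1, 2]).index ≤ 176 :=
  Cert.presSub_index_le_wide Enum4.steps_ok Enum4.rows_ok Enum4.row_zero (by norm_num) rfl (by decide +kernel)
    (by decide +kernel)

theorem card4 : Nat.card (Pres 4 rels4) ≠ 0 ∧ Nat.card (Pres 4 rels4) ≤ 443520 :=
  card_le_of_index_le index4 (rels' := rels3) (l := 3) (by decide) (by decide +kernel) card3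

theorem index5 : (presSub 5 rels5 [0, 1, 2, 3]).index ≠ 0 ∧ (presSub 5 rels5 [0, 1, 2, 3]).index ≤ 2025 :=
  Cert.presSub_index_le_wide Enum5.steps_ok Enum5.rows_ok Enum5.row_zero (by norm_num) rfl (by decide +kernel)
    (by decide +kernel)

theorem card5 : Nat.card (Pres 5 rels5) ≠ 0 ∧ Nat.card (Pres 5 rels5) ≤ 898128000 :=
  card_le_of_index_le index5 (rels' := rels4) (l := 4) (by decide) (by decide +kernel) card4

end CfsgLib.Spor.Mults.McLaughlin
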