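/-
The stem extension of McL.
-/
import Cfsg.Agent.Lib.Spor.Mults.McLaughlin.Group
import Cfsg.Agent.Lib.Spor.Mults.McLaughlin.PresBound
import Cfsg.Agent.Lib.Spor.Mults.McLaughlin.CheckRep0
import Cfsg.Agent.Lib.Spor.Mults.McLaughlin.CheckRep1
import Cfsg.Agent.Lib.Spor.Mults.McLaughlin.CheckRep2
import Cfsg.Agent.Lib.Spor.Mults.McLaughlin.CheckRep3
import Cfsg.Agent.Lib.Spor.Mults.McLaughlin.CheckRep4
import Cfsg.Agent.Lib.Spor.Mults.McLaughlin.CheckRep5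
import Cfsg.Agent.Lib.Spor.Mults.McLaughlin.CheckRep6
import Cfsg.Agent.Lib.Spor.Mults.McLaughlin.CheckRep7
import Cfsg.Agent.Lib.Spor.Mults.McLaughlin.CheckRep8
import Cfsg.Agent.Lib.Spor.Mults.McLaughlin.CheckRep9
import Cfsg.Agent.Lib.Spor.Mults.McLaughlin.CheckRep10
import Cfsg.Agent.Lib.Spor.Mults.McLaughlin.CheckRep11
import Cfsg.Agent.Lib.Spor.Mults.McLaughlin.CheckPoint0
import Cfsg.Agent.Lib.Spor.Mults.McLaughlin.CheckPoint1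
import Cfsg.Agent.Lib.Spor.Mults.McLaughlin.CheckPoint2
import Cfsg.Agent.Lib.Spor.Mults.McLaughlin.CheckPoint3
import Cfsg.Agent.Lib.Spor.Mults.McLaughlin.CheckPoint4

set_option maxRecDepth 20000

namespace CfsgLib.Spor.Mults.McLaughlin

open CfsgLib.Spor.TC

/-- The involutions as words in the packed elements. -/
def genWords : List (List ℕ) := [[62, 33, 446, 518, 513], [179, 462, 130, 204, 588], [20, 374, 359, 436, 585], [633, 532, 526, 439, 586], [633, 542, 363, 442, 585]]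

/-- Orbits along the base as words in the involutions. -/
def genOrbits : List (ℕ × List (ℕ × List ℕ)) := [
  (0, [
    (0, []),
    (1, [3, 2, 3, 1, 4, 4, 0, 1, 0]),
    (2, [4, 3, 1, 0]),
    (3, [4, 2, 4, 1, 2]),
    (4, [0, 1, 2, 4]),
    (5, [0, 2, 1, 2]),
    (6, [2, 2, 4, 2, 3, 4, 2, 1, 2, 3, 2, 0]),
    (7, [1, 2, 2, 4, 2, 2, 3, 2, 4, 1, 3, 2, 0, 3, 2]),
    (8, [3, 2, 1, 0]),
    (9, [0, 4, 3, 2, 1, 4, 2, 0, 0, 0, 3, 2, 4]),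
    (10, [1, 2, 1, 0]),
    (11, [1, 2, 4, 1, 0]),
    (12, [3, 2, 0, 2, 0]),
    (13, [4, 1, 0, 1, 2, 4, 4, 1, 2]),
    (14, [2, 3, 2]),
    (15, [0, 4, 2, 1, 1, 1, 0, 1, 2, 3, 1]),
    (16, [2, 0, 2]),
    (17, [2, 3, 4, 2, 4, 1]),
    (18, [1, 2, 0, 4, 3, 2, 0, 3]),
    (19, [3, 0, 1, 0]),
    (20, [4, 1, 4, 3, 2, 1, 0, 2]),
    (21, [4, 3, 0, 1]),
    (22, [4, 1, 0]),
    (23, [3, 2, 1, 4, 3, 2, 3, 2]),
    (24, [1, 4, 0]),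
    (25, [3, 0, 3, 1]),
    (26, [3, 1, 0, 4, 2, 4, 1, 0, 4, 0, 1, 3]),
    (27, [1, 1, 0, 2, 1, 2, 1, 2]),
    (28, [2, 3, 1, 0, 0, 2, 1, 3, 3, 0, 1, 3, 3]),
    (29, [1, 2, 1, 0, 3]),
    (30, [2, 0, 0, 0, 1, 1, 3, 1, 0, 0, 4, 2, 3, 2, 0, 1, 4, 2, 0, 1, 2, 2]),
    (31, [2, 4, 1, 2, 3, 0, 4, 2, 1, 0]),
    (32, [4, 2, 4]),
    (33, [4, 2, 3, 2]),
    (34, [0, 2, 3, 0, 2, 0]),
    (35, [1, 0, 2]),
    (36, [4, 1, 0, 2, 4, 1, 1, 2]),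
    (37, [2, 4, 1]),
    (38, [1, 0, 2, 3, 1]),
    (39, [3, 0, 2]),
    (40, [4, 1, 2, 4, 2, 3]),
    (41, [1, 3, 4, 1, 2, 1, 4, 4, 2, 1, 1]),
    (42, [4, 1, 2, 0, 0, 1, 2]),
    (43, [4, 1, 2, 1, 0, 3]),
    (44, [1, 4, 2, 0, 1]),
    (45, [1, 1, 0, 3, 4, 1, 2, 3, 4, 0, 1, 3, 3, 4]),
    (46, [3, 2, 1, 2, 3, 0, 2, 4]),
    (47, [0, 1, 2, 1, 2]),
    (48, [4, 3, 1, 2, 4, 3, 2]),
    (49, [2, 3, 1, 4, 1, 2, 3, 2]),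
    (50, [0, 3, 4, 2, 1, 2]),
    (51, [2, 3, 1, 3, 0, 2, 1, 2]),
    (52, [1, 3, 1, 1, 0, 4, 2, 1, 3, 0, 3, 2, 1, 2, 0, 4]),
    (53, [4, 2, 0, 1, 2, 1, 0, 3]),
    (54, [2, 4, 2, 1]),
    (55, [2]),
    (56, [3, 2, 4, 1, 2]),
    (57, [1, 3, 2, 3, 1, 3, 4, 1]),
    (58, [3, 1, 0, 1]),
    (59, [3, 4, 2, 3, 0, 2]),
    (60, [1]),
    (61, [2, 3, 0, 2]),
    (62, [0, 0, 2, 4, 2, 1, 0, 3, 4, 0, 4, 0, 1, 4, 1, 3, 2, 1, 4, 3, 4, 2, 1, 2, 1]),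
    (63, [3, 2, 1, 0, 3]),
    (64, [0, 1, 2, 3, 1, 2, 3, 1, 3, 2]),
    (65, [0, 4, 0, 0]),
    (66, [4, 1, 0, 3, 2, 1, 0, 1]),
    (67, [4, 3, 3, 1, 2, 3, 4, 0, 3, 1]),
    (68, [4, 2, 1, 0, 1]),
    (69, [0]),
    (70, [1, 2, 1, 2, 4, 0, 1, 0, 1, 2]),
    (71, [4, 1, 1, 2, 1, 2, 2, 0, 4, 4, 3, 4, 3, 2, 1, 3, 2, 3, 0, 3, 4]),
    (72, [3, 4, 1, 2, 1, 1, 4, 4, 1, 2, 2, 3, 2, 4, 0, 3, 2, 3, 2, 0, 0]),
    (73, [0, 1, 0, 2, 3]),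
    (74, [1, 2, 3, 2, 2, 3, 4, 1, 0, 4, 2, 2, 1, 1, 2, 3, 4, 2, 0, 1, 4, 0, 4, 0, 2]),
    (75, [0, 2, 4, 3, 2, 1]),
    (76, [2, 3, 0]),
    (77, [4, 2, 3, 0, 2, 4, 2, 3, 0, 1, 1]),
    (78, [0, 3, 2, 0]),
    (79, [1, 1, 3, 0, 1, 4, 4, 0, 0, 4, 2, 1, 2, 1, 0, 4]),
    (80, [2, 0, 3, 2]),
    (81, [1, 3, 2, 4, 0, 3, 2, 0]),
    (82, [0, 2, 3, 4, 1, 1, 3, 2, 0, 0, 3, 2, 3]),
    (83, [2, 0]),
    (84, [2, 1]),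
    (85, [0, 2, 1, 3]),
    (86, [2, 3, 2, 1, 4, 2, 1]),
    (87, [4, 3, 2, 4, 0]),
    (88, [4, 1, 2, 1, 0, 4, 4, 2, 3, 4]),
    (89, [2, 1, 0, 4]),
    (90, [2, 3, 4, 1, 4, 2, 1, 2]),
    (91, [3, 4, 3, 2, 0]),
    (92, [3, 3, 0, 0, 0, 3, 4, 4, 1, 3, 0, 2, 4, 0, 0, 3, 2, 1, 2, 3, 2, 2, 1, 3, 4, 0]),
    (93, [2, 3, 2, 3, 2, 3, 4]),
    (94, [2, 1, 3, 2, 0, 3, 2, 1]),
    (95, [0, 1, 1, 2, 3, 1, 1, 2, 0, 3]),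
    (96, [4, 2, 0]),
    (97, [3, 4, 2, 1, 0]),
    (98, [0, 3, 1, 4, 2, 4, 1, 2, 0, 1, 2, 4, 3, 2, 0, 4]),
    (99, [4, 0, 2, 0, 0, 0, 1, 0, 2, 3, 1]),
    (100, [4, 1]),
    (101, [3, 2, 1, 4, 0, 0, 1, 2, 3, 1]),
    (102, [4, 3, 4, 2, 1, 0, 0, 0, 0, 3, 0, 2, 3, 2]),
    (103, [2, 1, 2, 0, 2, 0]),
    (104, [0, 4, 2]),
    (105, [2, 4, 2, 4]),
    (106, [3, 4, 3, 2, 1, 3, 3, 3, 0, 1, 2]),
    (107, [4, 1, 2, 0, 1, 3, 4, 3, 0, 4, 2]),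
    (108, [0, 4, 0, 3, 4, 2, 0, 1, 3, 3, 2]),
    (109, [3, 2, 3, 0]),
    (110, [3, 4, 1, 4, 0, 1, 2, 0, 0, 1, 3, 4, 3, 0, 3, 2, 4, 3, 1, 4, 2, 4, 4, 2, 1, 2]),
    (111, [0, 1, 2, 4, 4, 3, 0, 2]),
    (112, [2, 4, 1, 2, 4, 0, 3, 4, 1, 3]),
    (113, [0, 1, 4, 1]),
    (114, [4, 3, 4, 4, 2, 1, 0, 3, 2, 3, 2]),
    (115, [0, 0, 2, 3, 2, 2, 0, 4, 3, 1, 2, 4, 2, 3, 0, 0, 2, 3, 3, 0, 1, 0]),
    (116, [2, 0, 1, 2, 1]),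
    (117, [3, 2, 1, 2]),
    (118, [2, 1, 2, 1]),
    (119, [4, 3, 2, 1, 2, 0, 4, 1, 0, 2, 2, 2, 2, 3, 3, 2, 3, 4, 2, 2]),
    (120, [1, 0, 2, 3]),
    (121, [3, 4, 1, 3, 4, 0, 3, 2, 3, 3, 3, 0, 3, 0, 1, 2, 1, 4, 1]),
    (122, [3, 1, 2, 1, 0, 2, 4, 0, 1, 3, 3, 0]),
    (123, [3, 2, 1, 0, 3, 2]),
    (124, [1, 1, 2, 3, 4, 3, 2, 1, 2, 3, 4, 3, 1, 4, 4, 0]),
    (125, [1, 2, 3, 0, 2, 3, 4, 1]),
    (126, [1, 4, 3, 1, 4, 1, 2, 4, 1, 2]),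
    (127, [1, 2, 1, 0, 2, 1, 2, 3]),
    (128, [3, 4, 2, 3, 1, 3, 2, 3, 2, 0]),
    (129, [1, 4, 2, 1, 3, 2, 3, 3, 3, 2]),
    (130, [4, 4, 3, 0]),
    (131, [0, 3, 0, 4, 3, 1, 4, 2, 1, 2]),
    (132, [1, 0, 1, 4, 3, 2, 4, 1, 4, 1]),
    (133, [2, 2, 1, 3, 2, 0, 1, 2, 3, 2, 0, 1, 0, 4, 2, 4, 3, 1]),
    (134, [0, 2, 3, 4, 1]),
    (135, [1, 2, 3, 0, 0, 1, 2, 1, 0, 2, 1]),
    (136, [2, 0, 1, 2, 3, 0, 3, 2, 4, 3, 3, 2, 2]),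
    (137, [1, 4, 3, 0, 3, 4, 2, 1, 0, 3, 4]),
    (138, [3, 2, 3]),
    (139, [2, 3, 4, 2, 1, 0]),
    (140, [3, 4, 3, 2, 3, 2]),
    (141, [2, 1, 3]),
    (142, [0, 2]),
    (143, [4, 2, 3, 4, 2, 3]),
    (144, [1, 2, 3]),
    (145, [2, 1, 2, 0, 4, 3, 2]),
    (146, [3, 0, 1, 2, 3, 3, 1, 2, 1]),
    (147, [3, 3, 4, 1, 0, 0, 2, 1, 3, 0, 1, 3, 2, 2, 4, 1, 2, 3, 3, 1, 4, 0]),
    (148, [1, 4, 0, 1, 1, 4, 3, 2, 1, 0, 0, 3, 0, 4, 3, 2, 1, 2]),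
    (149, [2, 1, 0, 4, 3, 1, 4, 1, 2, 1, 4, 4, 2]),
    (150, [2, 0, 1, 0]),
    (151, [3, 1, 4, 2, 1, 2]),
    (152, [1, 3, 1, 4, 1, 3, 2, 1, 4, 2, 0, 1, 1]),
    (153, [0, 2, 0, 1, 2, 4]),
    (154, [4, 2, 3, 1, 2, 4, 4, 4, 0, 3, 2, 2, 2]),
    (155, [4, 3, 1, 2, 3, 4, 1, 0]),
    (156, [1, 2, 3, 0]),
    (157, [4, 2, 0, 4, 3, 4, 1, 0, 1, 3, 2, 1, 3, 2, 3, 2, 3, 0, 4]),
    (158, [2, 1, 3, 0, 4, 0, 2, 0, 0, 4, 3, 2]),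
    (159, [1, 2, 1, 2, 1, 4, 0]),
    (160, [3, 0, 2, 0]),
    (161, [0, 1, 3, 1, 0, 4, 3, 2, 4, 3, 2, 1, 2, 0, 1, 2]),
    (162, [3, 0, 1, 2, 3, 2, 1, 2]),
    (163, [1, 2, 0, 1, 0]),
    (164, [0, 2, 3, 4, 3, 4, 0, 1]),
    (165, [2, 4, 1, 0, 3, 0, 2, 3, 2, 3]),
    (166, [3, 2, 1, 2, 3, 0]),
    (167, [0, 0, 2, 4, 2, 3, 0, 3, 2, 1, 2, 1, 0, 1, 2, 2, 0, 0, 4]),
    (168, [0, 3, 2, 1, 3, 3, 1, 1, 2, 1, 4, 0]),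
    (169, [2, 3, 1, 2, 3, 0, 4, 4]),
    (170, [1, 4, 3, 2, 1, 3, 3, 2]),
    (171, [1, 2, 0, 4, 3, 0, 2]),
    (172, [3, 3, 4, 3, 2, 3, 4, 1, 0, 2, 1, 0, 1]),
    (173, [0, 0, 2, 3, 0, 1, 3]),
    (174, [1, 4, 3, 2, 1, 0, 4]),
    (175, [3, 0, 4, 2, 3, 2, 4, 1, 0, 2]),
    (176, [0, 2, 3, 2, 3, 4, 3, 4, 1, 0, 2, 3, 2, 0, 2, 3]),
    (177, [0, 0, 1, 4]),
    (178, [3, 2, 3, 0, 1, 2, 1, 0]),
    (179, [1, 2, 4, 3, 1, 3, 4, 2, 3, 2, 0]),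
    (180, [2, 3, 2, 4, 3, 1, 2, 1, 2]),
    (181, [4, 3, 2, 0, 2, 2, 1, 0, 4]),
    (182, [4, 3, 2, 1, 2]),
    (183, [1, 4, 1, 2, 1, 2]),
    (184, [0, 1, 2, 1, 4, 1]),
    (185, [1, 4, 1, 4, 4, 2, 1, 4, 0]),
    (186, [1, 2, 1, 2]),
    (187, [3, 3, 3, 2, 0, 1, 2]),
    (188, [4, 4, 2, 1, 4, 4, 1, 4, 1, 0, 2, 1, 2]),
    (189, [3, 0, 0, 2, 3, 4, 1, 2, 1, 3]),
    (190, [3, 2, 0, 2, 3]),
    (191, [3, 1, 2, 4, 0, 1, 4, 0, 3]),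
    (192, [4, 3, 4, 4, 2, 3, 2, 2, 2, 3]),
    (193, [4, 3, 1, 0, 3, 2, 3, 1, 1, 1, 3, 3, 2, 0, 1, 2]),
    (194, [4, 1, 0, 1, 4, 0, 2, 1, 2, 2, 2, 1, 1]),
    (195, [2, 1, 0, 3, 4, 3, 3, 4, 4, 3, 2, 3, 2]),
    (196, [2, 4, 3, 0]),
    (197, [0, 3, 1, 0]),
    (198, [1, 3, 4, 2, 3, 1]),
    (199, [2, 4, 1, 2, 0]),
    (200, [2, 3, 4, 1, 2, 1, 4]),
    (201, [4, 3, 0]),
    (202, [3, 4, 2, 3, 2]),
    (203, [1, 4, 2, 0, 3, 4, 3, 3, 0]),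
    (204, [0, 3, 2, 4, 1, 0, 0, 2]),
    (205, [2, 1, 4, 3, 0]),
    (206, [1, 4, 2, 3, 2]),
    (207, [1, 3, 2, 1, 4, 1, 2, 1, 1, 3, 1, 3, 2, 0, 1, 0]),
    (208, [0, 3, 2]),
    (209, [4, 1, 3, 4, 2, 1, 0]),
    (210, [2, 0, 2, 3, 0]),
    (211, [0, 2, 4, 1, 3, 3, 0, 1, 1, 2, 1, 0, 4]),
    (212, [4, 1, 2, 0]),
    (213, [4, 3, 1, 2, 1, 0, 2, 4]),
    (214, [1, 4, 2, 1, 0, 2, 1, 4, 0]),
    (215, [3, 0, 2, 3, 0]),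
    (216, [4, 1, 2]),
    (217, [1, 2, 0, 2, 3, 0]),
    (218, [0, 2, 4, 1, 3, 2, 1, 4, 2, 0]),
    (219, [1, 4, 3, 0]),
    (220, [0, 2, 3, 0]),
    (221, [2, 4, 3, 0, 1]),
    (222, [4, 1, 0, 3]),
    (223, [1, 3, 2, 0, 4, 0, 0, 0, 1, 3, 2, 0, 1, 4, 1, 4, 3, 3, 0, 4, 4]),
    (224, [3, 0, 0, 1, 2, 1, 2, 3, 4, 0]),
    (225, [1, 2, 1, 4, 2, 1]),
    (226, [1, 0, 2, 0, 4, 0, 1, 2, 2, 4, 2, 4, 2]),
    (227, [4, 2, 1]),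
    (228, [2, 0, 1, 0, 2]),
    (229, [3, 4, 1, 2, 1, 2]),
    (230, [4, 3, 0, 1, 0, 4]),
    (231, [0, 0, 0, 4, 1, 2, 1, 0, 2]),
    (232, [4, 3, 1, 1, 4, 0, 2, 3, 1, 4, 2, 3, 2, 2, 2]),
    (233, [1, 0]),
    (234, [4, 2, 3, 0]),
    (235, [0, 2, 1, 0, 3]),
    (236, [2, 1, 1, 1, 3, 2, 4, 0, 0, 3, 4, 1, 2, 4, 2, 2, 3, 2]),
    (237, [2, 3, 4, 2, 3, 0]),
    (238, [0, 4, 1, 2, 4]),
    (239, [2, 4, 3, 2, 1, 2]),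
    (240, [3, 2, 1, 2, 4, 1, 0, 0, 2]),
    (241, [3, 1, 4, 2, 3, 4, 2, 4, 2, 2, 4, 4, 1, 2, 0, 2, 2, 1, 0, 1]),
    (242, [2, 1, 2, 1, 1, 3, 2, 1, 1, 3, 2, 4]),
    (243, [1, 0, 2, 0, 3, 2]),
    (244, [0, 1, 3, 2, 3, 2]),
    (245, [2, 0, 3, 1, 2, 3, 2, 3]),
    (246, [1, 4, 2, 4, 2]),
    (247, [1, 2, 3, 0, 2]),
    (248, [0, 3, 2, 3, 3, 3, 0, 4, 1, 4, 2, 3, 2]),
    (249, [1, 2, 0, 3, 2]),
    (250, [3, 2, 4, 1, 4, 1, 2, 0, 2, 1, 0, 2, 1, 4, 4, 2, 0, 3, 2, 1]),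
    (251, [1, 2, 0, 4, 3, 2]),
    (252, [3, 0, 4]),
    (253, [3, 2, 0, 3, 2, 0]),
    (254, [4, 1, 2, 3, 2, 4, 4, 4, 3, 2, 3, 2]),
    (255, [2, 4, 1, 2, 3]),
    (256, [1, 2, 3, 2, 3]),
    (257, [2, 1, 2, 0]),
    (258, [3, 4, 2, 4, 2, 4, 4, 1, 2, 3]),
    (259, [3]),
    (260, [2, 4, 1, 2]),
    (261, [0, 2, 1, 2, 1, 1, 0, 1, 2, 1, 3, 1]),
    (262, [3, 2, 0, 3, 0, 3, 2]),
    (263, [4, 3, 2, 1]),
    (264, [0, 1, 2, 4, 2, 3, 4, 0, 2, 3, 2, 0, 1, 2, 4, 1, 2]),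
    (265, [3, 1, 2, 3, 0]),
    (266, [1, 2, 0, 0]),
    (267, [1, 4, 0, 1, 0, 4, 2, 1, 0, 3]),
    (268, [2, 3, 2, 0, 0, 4, 1, 2]),
    (269, [3, 0, 2, 4, 3, 2, 0, 0]),
    (270, [2, 4]),
    (271, [0, 1, 0]),
    (272, [1, 2, 4, 1, 2]),
    (273, [0, 1, 4, 2, 3, 2]),
    (274, [3, 0, 1])]),
  (1, [
    (1, []),
    (2, [0, 1, 2, 3, 2, 1, 0]),
    (4, [2, 0, 1, 3, 2, 0, 2, 1]),
    (5, [2, 3, 2, 4, 0, 3, 2, 1, 0, 3]),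
    (6, [0, 3, 2, 4, 3, 2, 0, 2, 1, 4, 2, 3, 0]),
    (8, [1, 4, 0, 1, 3, 2, 4]),
    (9, [4, 2, 4, 2, 4, 1, 2, 1, 4]),
    (13, [2, 4, 2, 0, 1, 4, 1, 2, 4, 2, 3, 0, 2, 0, 3, 0, 1]),
    (17, [3, 2, 0, 2, 0, 1, 2, 3, 1]),
    (21, [1, 2, 4, 0, 3, 1, 4]),
    (25, [2, 3, 0, 1, 4, 1, 0]),
    (29, [3, 2, 0, 1, 3, 4, 2, 0]),
    (30, [4, 2, 4, 1, 0, 2, 0]),
    (33, [2, 1, 2, 0, 2, 3, 0, 2, 3]),
    (36, [2, 3, 0, 1, 2, 4, 2, 1, 2, 1]),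
    (47, [3, 0, 1, 2, 4, 2, 3, 2, 0]),
    (49, [0, 3, 2, 1, 0, 3, 1, 2, 3, 0]),
    (51, [4, 2, 4, 3, 4, 1, 3, 2, 0, 4]),
    (52, [3, 2, 1, 0, 4, 1, 4, 1, 2, 0]),
    (53, [0, 2, 1, 4, 3, 0, 2, 3, 2, 4, 3, 0, 4]),
    (57, [1, 2, 4, 0, 1]),
    (62, [3, 2, 1, 0, 1, 2, 0, 2, 4, 1, 2]),
    (63, [3, 2, 0, 1, 3, 0, 2, 3]),
    (64, [0, 3, 4, 2, 4, 1, 2, 4, 1]),
    (66, [3, 1, 4, 2]),
    (70, [1, 0, 3, 4, 3, 4, 2, 1, 2, 4]),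
    (71, [3, 2, 3, 1, 2, 3, 4, 2]),
    (72, [3, 0, 1, 4, 1, 0, 3, 4, 2, 0, 3, 4, 1, 2]),
    (73, [3, 1, 2, 3, 2, 1, 4]),
    (75, [0, 1, 3, 4, 2, 0, 3, 1, 0]),
    (76, [0, 1, 3, 2, 4, 2, 1]),
    (82, [0, 1, 4, 3, 1, 2, 3, 0, 3]),
    (83, [3, 1, 2, 3, 2, 3, 1]),
    (86, [2, 0, 1, 2, 4, 2, 1, 0, 2]),
    (89, [4, 0, 3, 2, 3, 1, 4, 1, 0]),
    (90, [4, 2, 1, 4, 0, 3, 4, 2, 0, 3, 4, 0, 4]),
    (94, [0, 2, 1, 4, 0, 4, 3, 0]),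
    (97, [1, 2, 1, 3, 2, 4]),
    (103, [3, 2, 0, 1, 0, 3, 4, 1, 0]),
    (108, [0, 1, 0, 1, 2, 4, 0]),
    (110, [4, 0, 1, 2, 3, 4, 1, 3, 0, 1, 0, 2, 1, 2]),
    (112, [0, 2, 3, 4, 3, 4, 1, 0, 2, 4]),
    (113, [2, 3, 0, 3, 2, 3, 0, 4]),
    (117, [4, 2, 1, 0, 3, 0, 4, 1, 2]),
    (118, [1, 3, 2, 4, 3, 1, 2, 3, 0, 3, 1, 0, 3]),
    (119, [4, 0, 3, 2, 3, 1, 0, 3, 2, 4]),
    (120, [2, 0, 2, 3, 4, 0, 3, 2, 1, 3]),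
    (121, [0, 3, 4, 1, 4, 2, 1, 2, 0]),
    (122, [1, 2, 3, 4, 1, 4, 3, 2, 1]),
    (123, [1, 4, 2, 3, 1, 0, 2]),
    (125, [0, 1, 2, 0, 2, 1, 0, 1, 2]),
    (127, [1, 2, 3, 4, 2, 0, 4, 3, 2, 3, 0]),
    (128, [0, 3, 4, 3, 1, 2, 0, 4, 1, 2, 4]),
    (129, [1, 2, 0, 3, 4, 1, 2]),
    (134, [1, 4, 1, 0, 4, 0, 3, 2]),
    (136, [2, 3, 0, 1, 0, 3, 2, 4]),
    (139, [3, 0, 1, 2, 0, 2, 1, 0, 2]),
    (140, [3, 2, 4, 2, 1, 4, 0, 4, 1, 0, 2, 1, 4]),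
    (142, [3, 2, 3, 0, 4, 1, 0]),
    (143, [2, 1, 2, 0, 2, 1, 0, 2, 3]),
    (144, [0, 2, 1, 2, 3, 0, 3, 2]),
    (146, [4, 1, 4, 2]),
    (147, [0, 3, 4, 1, 4, 2, 0, 1, 2, 0, 1]),
    (150, [2, 1, 3, 2, 3, 4]),
    (152, [1, 4, 3, 2, 0, 2, 4, 3, 0, 2, 4]),
    (154, [0, 3, 2, 4, 1, 3, 4, 2, 1, 2, 0, 1]),
    (155, [3, 4, 1, 2, 4, 0, 1]),
    (156, [0, 3, 4, 2, 4, 3, 0, 2]),
    (157, [3, 2, 3, 4, 1, 4, 0, 2]),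
    (158, [2, 1, 4, 3, 0, 2, 1]),
    (159, [2, 4, 0, 1, 4, 3, 2, 4]),
    (163, [3, 2, 3, 1, 2, 1]),
    (164, [4, 3]),
    (165, [3, 2, 0, 1, 0, 1, 3, 0, 1, 2]),
    (168, [4, 0, 1, 2, 3, 2, 4, 0, 1, 2]),
    (172, [0, 4, 2, 3, 4, 1, 4, 3, 2, 0, 4]),
    (173, [3, 4]),
    (174, [1, 0, 2, 4, 1, 4, 0, 3, 0, 2, 3]),
    (180, [1, 2, 0, 1, 4, 1, 2]),
    (184, [2, 3, 1, 2]),
    (185, [0, 3, 2, 1, 3, 4, 3, 4, 1, 2, 3, 4, 0, 4]),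
    (186, [0, 2, 4, 1, 2, 0, 2, 3, 2]),
    (187, [2, 4, 1, 4]),
    (188, [3, 0, 1, 4, 0, 3, 2, 1, 4, 3, 2]),
    (189, [0, 4, 1, 3, 2, 0, 3, 4]),
    (192, [0, 1, 4, 0, 1, 2, 1]),
    (193, [4, 2, 1, 2, 1, 2, 4]),
    (196, [1, 3, 4, 2, 3, 4]),
    (200, [1, 2, 0, 3, 1, 4, 1]),
    (203, [0, 1, 2, 4, 3, 1, 4, 1, 2, 4, 1, 0, 4]),
    (207, [1, 2, 3, 4, 2, 3, 1, 2, 4, 1, 2, 0]),
    (208, [0, 1, 4, 0, 3, 2, 3]),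
    (209, [4, 0, 1, 3, 2, 0]),
    (211, [2, 1, 4, 2, 3, 2, 1, 4, 3, 2, 3, 0, 2]),
    (213, [0, 3, 2, 0, 2, 4, 1, 3, 2, 4, 3, 0, 1]),
    (217, [3, 1, 2, 3, 2, 4, 2]),
    (219, [1, 2, 4, 2, 1, 3, 0]),
    (222, [4, 1, 2, 3, 2, 1, 3]),
    (223, [3, 2, 1, 2, 0, 1, 2, 1, 4, 1, 0, 2, 4, 1, 2]),
    (225, [0, 2, 3, 0, 1, 4, 2, 1]),
    (227, [3, 1, 2, 1, 2, 3, 1]),
    (229, [2, 1, 2, 0, 2, 3, 4, 2, 0]),
    (232, [2, 0, 3, 2, 4, 3, 0, 2, 4, 3, 0, 1, 2]),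
    (233, [4, 1, 2, 3, 2, 1, 4]),
    (236, [3, 2, 1, 4, 2, 1, 2, 4, 1, 2, 0]),
    (238, [3, 2, 0, 1, 3, 4, 1, 3, 4, 0]),
    (239, [3, 0, 1, 2, 0, 2, 4, 1, 0, 3, 4, 2]),
    (241, [2, 1, 2, 1, 0, 2, 4, 1, 2, 1, 2]),
    (243, [2, 0, 1, 3, 2, 4, 1]),
    (246, [1, 2, 1, 0, 2, 4, 2, 3, 2, 3]),
    (250, [4, 2, 1, 2, 0, 3, 0, 4, 1, 2]),
    (257, [0, 2, 3, 0, 1, 0, 1])]),
  (2, [
    (2, []),
    (4, [4, 1, 3, 0, 4, 2, 1, 4, 1, 2, 1, 2, 1, 3]),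
    (5, [2, 0, 3, 4, 2, 4, 3, 0, 4, 0, 3, 2, 3, 0, 3, 2]),
    (6, [2, 0, 1, 2, 0, 2, 1, 0, 3, 2, 1, 2, 1, 4, 3, 0, 2, 1, 2, 1, 0, 2]),
    (8, [0, 1, 3, 0, 2, 4, 3, 1, 2, 3, 0, 1, 4, 2, 1, 3, 4]),
    (9, [0, 1, 4, 3, 0, 1, 0, 2, 3, 2, 3, 4, 0, 2, 1, 2, 3, 0, 1, 2, 0, 1, 0, 3]),
    (13, [1, 0, 4, 2, 1, 3, 2, 1, 2, 3, 4, 0, 1]),
    (17, [0, 2, 4, 3, 2, 0, 2, 1, 2, 3, 2, 0, 1, 0, 4, 2, 4, 2, 3, 2]),
    (29, [4, 1, 2, 3, 2, 1, 0, 1, 2, 3, 4, 3, 0, 2, 3, 2]),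
    (30, [0, 1, 4, 1, 3, 2, 3, 0, 4, 0, 2, 4, 3, 1, 0, 2, 3]),
    (36, [3, 2, 3, 0, 4, 1, 0, 3, 0, 1, 2, 3, 4, 0, 2, 3, 2]),
    (47, [3, 2, 4, 1, 4, 2, 3]),
    (49, [0, 1, 4, 0, 3, 2, 3, 2, 1, 2, 3, 0, 3, 2, 3, 2]),
    (52, [3, 2, 0, 3, 2, 0, 2, 1, 3, 2, 0, 2, 3, 0, 2, 3]),
    (57, [3, 1, 4, 2, 4, 3]),
    (63, [1, 2, 4, 2, 3, 1, 0, 2, 1, 2, 0, 4, 3, 2, 3, 2, 0]),
    (64, [0, 1, 4, 1, 3, 2, 3, 2, 1, 4, 3, 2, 3]),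
    (66, [3, 2, 0, 3, 1, 0, 2, 3, 1, 4, 2, 1, 0, 2, 3, 2, 0, 3, 1]),
    (73, [2, 4, 2, 1, 2, 4, 2]),
    (75, [4, 2, 3, 1, 2, 1, 0, 2, 1, 2, 3, 0, 1, 2]),
    (76, [1, 0, 4, 1, 0, 2, 0, 2, 1, 0]),
    (82, [2, 1, 4, 0, 3, 0, 1, 2, 4, 2, 0, 1, 0, 2, 0, 2, 1, 4, 2, 1]),
    (83, [1, 0, 1, 0, 1, 0, 4]),
    (86, [0, 3, 1, 2, 4, 2, 0, 1, 3, 0, 3, 4, 2, 3]),
    (89, [2, 1, 4, 0, 3, 0, 1, 2, 4, 1, 2, 4, 2, 3, 0, 4, 1, 2, 1]),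
    (90, [2, 0, 1, 2, 0, 2, 1, 0, 3, 2, 4, 2, 3, 2, 3, 2, 3, 2, 1, 2, 3]),
    (94, [4, 2, 3, 1, 0, 4, 1, 2, 0, 3, 1, 2, 4, 1, 4, 3]),
    (97, [2, 4, 2, 3, 2, 1, 2, 0, 1, 0, 1, 3, 0, 3, 2]),
    (103, [2, 1, 3, 2, 0, 3, 2, 0, 2, 1, 2, 4, 3, 4, 2, 1, 4, 1]),
    (108, [1, 3, 2, 3, 2, 1, 3, 0, 1, 2, 3, 2, 0, 1, 2, 0, 3]),
    (110, [4, 2, 3, 1, 2, 1, 0, 3, 4, 2, 3, 2, 4, 3, 0, 3, 1]),
    (112, [3, 1, 2, 3, 2, 1, 4, 3, 2, 0, 1, 4, 1, 0, 3, 2, 1]),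
    (113, [4, 1, 2, 3, 2, 1, 3, 0, 1, 0, 2, 0, 2, 3, 2, 3]),
    (117, [3, 4, 3, 0, 1, 2, 0, 2, 1, 4, 2, 0, 3]),
    (119, [1, 2, 0, 3, 4, 1, 3, 0, 2, 0, 1, 2, 1, 3, 2, 1, 0]),
    (120, [3, 4, 2, 1, 4, 3, 4, 1]),
    (121, [4, 3, 2, 4, 3, 1, 3, 0, 2, 0, 1, 3, 4, 3]),
    (122, [4, 2, 3, 1, 0, 4, 1, 2, 0, 3, 1, 2, 3, 1, 4, 1]),
    (125, [1, 2, 1, 3, 2, 3, 2, 0, 3, 0, 2, 1, 3, 0, 4, 3, 2, 4, 1]),
    (128, [0, 1, 4, 1, 0, 3, 2, 4, 1, 4, 2, 3, 4]),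
    (136, [2, 1, 2, 3, 0, 3, 2, 1, 2]),
    (142, [2, 3, 0, 3, 2, 1, 2, 0, 3, 0, 1, 2, 3, 2, 0, 1, 4, 1]),
    (144, [3, 4, 2, 4, 1, 3]),
    (146, [2, 4, 2, 3, 2, 1, 3, 2, 3, 0, 1, 0, 1, 2, 1]),
    (150, [2, 1, 4, 3, 0, 4, 1, 2, 1, 0, 1, 2, 4, 1, 0]),
    (152, [0, 3, 1, 2, 4, 2, 1, 4, 0, 1, 2, 3, 4, 0, 2, 3, 2]),
    (156, [0, 2, 4, 3, 1, 0, 2, 3, 1, 0, 3, 2, 3, 0, 1]),
    (157, [2, 3, 0, 3, 2, 1, 2, 0, 4, 0, 3, 1, 4, 2, 0, 3, 2, 4, 2]),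
    (163, [4, 0, 1, 4, 2, 1, 4, 1, 3, 4, 2, 1, 0, 1, 0, 1, 3, 4, 3, 4, 2, 0, 2, 1]),
    (164, [1, 3, 2, 1, 2, 1, 3, 2, 1, 4, 2, 4, 2, 3, 4, 1, 0]),
    (165, [4, 3, 2, 4, 3, 1, 3, 2, 0, 1, 0, 2, 4, 2, 3, 4, 1]),
    (168, [3, 0, 1, 3, 0, 3, 2, 1, 3, 4, 2, 3, 1, 3, 0, 1, 2, 0, 2, 4, 1, 4, 2, 1]),
    (172, [3, 0, 1, 3, 0, 3, 2, 1, 3, 4, 2, 3, 1, 2, 0, 1, 2, 3, 0, 2, 1, 4, 2, 0, 2]),
    (173, [2, 4, 3, 2, 1, 3, 2, 3, 0, 2, 3, 0, 4, 1, 0, 2]),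
    (174, [1, 3, 2, 3, 2, 1, 3, 4, 2, 4, 2, 4, 3, 2, 3, 1]),
    (180, [0, 2, 4, 3, 1, 0, 2, 3, 0, 3, 4, 1, 4, 2, 3, 0, 3]),
    (184, [2, 4, 3, 2, 1, 3, 2, 3, 4, 2, 3, 1, 2, 3, 4, 2]),
    (185, [2, 0, 1, 2, 4, 2, 1, 0, 1, 4, 2, 1, 0, 2, 0, 1, 2, 1, 0]),
    (187, [1, 2, 1, 3, 2, 0, 1, 4, 0, 3, 2, 4, 1]),
    (189, [1, 2, 0, 3, 4, 1, 2, 1, 0, 2, 4, 1, 4, 3, 1, 0, 1, 2]),
    (192, [4, 3, 0, 1, 0, 1, 2, 0, 3]),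
    (193, [2, 1, 0, 1, 2, 0, 2, 1, 0, 2, 0, 2, 3, 0, 2, 4, 1, 3, 2, 1]),
    (196, [0, 2, 3, 2, 4, 2, 1, 0, 3, 0, 1, 3, 4, 0, 2, 1, 4, 1, 2]),
    (203, [4, 2, 4, 3, 2, 4, 2, 0, 2, 3, 0, 2, 0]),
    (208, [1, 0, 4, 2, 0, 3, 2, 3, 4, 2, 1]),
    (209, [4, 3, 2, 4, 2, 0, 1, 0, 1, 2, 1, 4, 2, 3]),
    (211, [4, 1, 2, 3, 2, 1, 3, 1, 4, 2, 4, 0, 3, 1, 0]),
    (213, [4, 1, 2, 3, 2, 1, 3, 0, 1, 4, 2, 1, 4, 1, 2, 3, 2, 4]),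
    (217, [0, 2, 1, 4, 2, 1, 2, 4, 1, 2, 3, 2, 0, 3, 1, 2, 3, 4, 1, 2]),
    (219, [2, 1, 3, 2, 0, 1, 0, 4, 3, 2, 4]),
    (222, [2, 0, 2, 1, 2, 0, 2]),
    (227, [1, 2, 0, 3, 4, 1, 2, 3, 2, 1, 2, 1, 2, 4]),
    (232, [4, 3, 2, 4, 3, 1, 0, 2, 3, 0, 4, 1, 0, 4, 1, 3]),
    (233, [1, 3, 2, 3, 2, 1, 3, 1, 2, 4, 2, 1, 3, 0, 4, 3]),
    (236, [2, 4, 1, 3, 4, 1, 3, 2, 3, 2, 1, 2, 3]),
    (238, [1, 4, 2, 3, 0, 4, 3, 2, 0]),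
    (239, [1, 2, 0, 2, 3, 1, 0, 2, 1, 3, 0, 3, 1, 3, 4, 3, 2, 3]),
    (241, [0, 2, 4, 3, 1, 0, 2, 3, 0, 3, 4, 1, 4, 2, 3, 2, 0, 3, 1]),
    (246, [1, 3, 2, 1, 0, 2, 0, 2, 3, 4, 2, 4, 2, 4, 1, 2, 1, 3]),
    (250, [1, 2, 0, 2, 3, 1, 0, 2, 4, 0, 3, 1, 2, 0, 4, 3]),
    (257, [0, 1, 4, 1, 3, 2, 3, 0, 4, 1, 3, 2, 0, 2, 3, 1, 0, 2, 4])]),
  (3, [
    (3, []),
    (7, [0, 1, 2, 0, 2, 0, 1, 4, 0, 1, 0, 3, 4, 0, 4, 1, 2, 1, 0, 3, 1, 0, 2, 3, 0, 1]),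
    (11, [0, 1, 4, 2, 1, 0, 1, 2, 1, 4, 0, 3, 4, 1, 2, 0, 2, 1, 4, 1, 4, 0, 1, 2, 3, 0, 1, 3, 4, 2, 1, 0, 2, 0, 1]),
    (14, [2, 0, 1, 4, 0, 3, 2, 0, 3, 2, 3, 1, 2, 3, 4, 2, 0, 1, 2, 3, 2, 1, 2, 3, 4, 3, 1, 0, 2, 3, 2, 1]),
    (15, [3, 1, 2, 1, 2, 1, 4, 1, 2, 4, 0, 3, 1, 4, 0, 1, 2, 3, 2, 1, 0, 2, 0, 2, 3, 2, 0, 2, 3, 4]),
    (19, [2, 3, 0, 3, 2, 3, 0, 4, 0, 3, 4, 2, 4, 3, 0, 2, 4, 3, 2, 4, 3, 1, 0, 2, 3, 4, 3, 0, 3, 4, 3, 1, 0]),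
    (20, [2, 1, 0, 3, 2, 1, 2, 0, 1, 2, 1, 3, 2, 4, 0, 1, 2, 4, 2, 0, 1, 0]),
    (23, [3, 1, 2, 1, 2, 1, 4, 1, 2, 4, 0, 3, 1, 4, 3, 4, 1, 0, 1, 2, 4, 2, 4, 1, 4, 0, 3, 1]),
    (41, [4, 2, 3, 4, 0, 1, 0, 2, 3, 1, 2, 3, 2, 0, 3, 1, 0, 2, 3, 2, 0, 2, 3, 2, 0, 4, 1, 4]),
    (42, [4, 0, 1, 0, 1, 0, 2, 4, 2, 3, 1, 0, 1, 2, 4, 2, 3, 1, 3, 0, 3, 4, 0]),
    (46, [2, 0, 1, 3, 2, 4, 1, 3, 2, 1, 2, 3, 2, 1]),
    (50, [3, 1, 2, 1, 2, 1, 4, 1, 2, 4, 0, 3, 1, 4, 1, 2, 1, 0, 4, 1, 0, 2, 1, 4, 1, 4, 3, 4, 2]),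
    (59, [2, 3, 0, 3, 2, 3, 0, 4, 0, 3, 4, 2, 4, 3, 0, 2, 1, 4, 1, 3, 0, 2, 1, 0, 1, 0, 4, 3, 2, 4, 3, 4]),
    (80, [2, 1, 0, 3, 2, 1, 2, 0, 1, 2, 1, 3, 2, 4, 0, 1, 4, 0, 3, 2, 3, 1, 2, 4, 3, 2, 3, 0, 1]),
    (81, [0, 1, 2, 3, 2, 1, 4, 2, 3, 4, 2, 4, 3, 0, 4, 2]),
    (87, [2, 4, 2, 1, 2, 4, 2, 4, 1, 2, 3, 2, 1, 3, 1, 4, 2, 3, 1, 4, 0, 1, 3]),
    (114, [4, 0, 1, 0, 1, 0, 2, 0, 3, 4, 1, 2, 3, 2, 0, 1, 0, 1, 2, 1, 2, 0]),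
    (116, [3, 2, 4, 3, 0, 3, 1, 0, 2, 4, 2, 1, 3, 0, 4, 2, 1, 2, 4, 3, 4, 3, 0, 1, 0, 3, 2, 0, 2, 3, 2, 1, 0, 2, 3, 0]),
    (126, [3, 1, 2, 1, 2, 1, 4, 1, 2, 4, 0, 3, 1, 4, 1, 2, 1, 3, 2, 3, 0, 2, 1, 2, 3, 1, 0, 3, 2, 4]),
    (133, [3, 1, 4, 2, 4, 3, 1, 2, 3, 4, 1, 4, 3, 2, 1, 0, 3, 4, 2, 1, 2, 4, 3, 0]),
    (145, [4, 2, 3, 4, 0, 1, 0, 2, 3, 1, 2, 3, 2, 0, 3, 2, 0, 2, 1, 2, 1, 2, 1, 0, 2, 4, 2, 3, 2, 4]),
    (148, [4, 2, 3, 4, 0, 1, 0, 2, 3, 1, 2, 3, 4, 3, 0, 1, 2, 0, 2, 1, 4, 0, 1, 3]),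
    (149, [3, 2, 3, 2, 0, 2, 0, 1, 0, 3, 1, 2, 3, 2, 1, 4, 3, 0, 1, 2, 3, 0, 4, 2, 3, 0, 2, 1, 2, 0, 1, 3, 2]),
    (161, [2, 1, 0, 3, 2, 1, 2, 0, 1, 2, 1, 3, 2, 4, 0, 3, 4, 0, 4, 1, 2, 3, 4, 2, 4, 3, 0, 4, 1, 4]),
    (175, [0, 2, 0, 1, 4, 2, 4, 0, 2, 1, 4, 2, 3, 4, 0, 2, 3, 0]),
    (177, [2, 3, 0, 3, 2, 3, 0, 4, 0, 3, 4, 2, 4, 3, 0, 4, 1, 3, 1, 2, 4, 2, 1, 0, 1, 2, 0]),
    (178, [4, 0, 1, 0, 1, 0, 1, 0, 2, 3, 1, 0, 4, 3, 4, 2, 1, 3, 2]),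
    (179, [1, 4, 3, 4, 1, 2, 4, 3, 0, 2, 3, 0, 4, 3, 2, 4, 1]),
    (190, [3, 4, 0, 3, 1, 2, 4, 2, 1, 3, 1, 2, 3, 2, 3, 1, 3, 2, 0, 3, 1, 0, 2, 3, 0, 3, 4, 2, 0, 1, 4, 3, 4, 0, 4]),
    (216, [2, 0, 2, 1, 2, 0, 2, 0, 1, 2, 3, 2, 1, 0, 2, 1, 4, 1, 4, 3, 4, 2, 3, 4]),
    (218, [3, 2, 4, 3, 0, 3, 1, 0, 2, 4, 2, 1, 3, 0, 4, 3, 2, 4, 3, 0, 2, 1, 3, 0, 4, 3]),
    (220, [3, 2, 3, 2, 0, 2, 0, 1, 0, 3, 1, 2, 3, 2, 1, 4, 1, 2, 0, 2, 3, 1, 2, 3, 2, 0, 2]),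
    (221, [1, 4, 3, 4, 1, 2, 4, 3, 2, 4, 1, 3, 1, 2, 4, 0, 3, 4, 2]),
    (224, [3, 2, 4, 1, 4, 2, 3, 2, 3, 0, 3, 2, 1, 3, 0, 2, 3, 0, 3, 2, 1, 0, 1]),
    (226, [2, 3, 2, 4, 2, 4, 0, 1, 0, 2, 3, 2, 1, 2, 0, 2, 3, 4, 2, 0, 3, 4, 0, 1, 2, 3, 2, 1, 4, 0, 3]),
    (231, [2, 3, 0, 3, 2, 3, 0, 4, 0, 3, 4, 2, 4, 3, 0, 2, 1, 2, 4, 1, 0, 3, 2, 0, 1, 2, 4, 1, 3, 2, 3, 0, 1, 0]),
    (235, [2, 0, 3, 4, 2, 4, 3, 0, 1, 3, 2, 4, 3, 1, 2, 3, 4, 2, 3]),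
    (240, [1, 0, 3, 2, 3, 0, 1, 3, 2, 0, 1, 3, 4, 2, 1, 4, 0, 3, 2, 3, 1, 4, 1, 2, 1, 0, 2, 1, 2, 0, 3, 2]),
    (242, [4, 2, 3, 4, 0, 1, 2, 1, 2, 3, 1, 4, 1, 0]),
    (248, [3, 0, 3, 2, 4, 1, 4, 3, 0, 3, 2, 0, 1, 3, 4, 2, 0, 4, 1, 2, 3, 2, 1, 3, 2, 3, 0, 4, 3, 0, 3, 2, 1]),
    (256, [0, 1, 4, 2, 1, 0, 1, 2, 1, 4, 0, 3, 4, 1, 2, 3, 2, 3, 0, 4, 1, 0, 1, 4, 3, 2, 0, 2, 4, 3, 0, 2, 3]),
    (261, [1, 2, 4, 3, 2, 3, 0, 2, 4, 0, 1, 0, 1, 2, 3, 2, 1, 0, 2, 4, 2, 4, 1, 0, 1, 3, 2, 3, 2, 0, 2, 3]),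
    (266, [3, 2, 3, 4, 1, 2, 3, 2, 3, 1, 4, 2, 3, 2, 1, 0, 3, 2, 1, 2, 0, 1, 2, 0, 2, 3, 0, 2, 1]),
    (267, [2, 4, 2, 1, 2, 4, 2, 4, 1, 4, 2, 1, 4, 3, 4, 1, 2]),
    (274, [0, 2, 3, 4, 0, 3, 2, 4, 1, 3, 2, 0, 3, 1, 0, 2, 3, 4, 2, 4, 2, 4, 3, 2, 1, 4])]),
  (4, [
    (4, []),
    (17, [3, 1, 2, 1, 2, 1, 4, 1, 2, 4, 0, 3, 1, 2, 3, 1, 2, 1, 4, 0, 1, 0, 3, 0, 3, 1, 0, 2, 0]),
    (83, [2, 0, 2, 3, 2, 1, 3, 2, 0, 2, 1, 4, 1, 2, 3, 2, 1, 3, 0, 1, 0, 2, 0, 2, 3, 2, 3, 2, 3, 2, 4, 2, 4, 0, 1, 0, 2, 3, 2, 1, 2, 0, 2, 3, 4, 2, 0, 4, 2, 1, 2, 1, 2, 4, 0, 3, 2, 3, 2, 3, 4, 0, 1, 2]),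
    (90, [0, 3, 4, 2, 1, 2, 4, 3, 0, 1, 2, 3, 4, 1, 4, 3, 2, 1, 3, 4, 2, 4, 1, 3, 2, 1, 0, 3, 2, 1, 2, 0, 1, 2, 1, 3, 2, 4, 1, 2, 4, 2, 3, 1, 0, 1, 4, 3, 2, 0, 2, 1, 0, 3, 4, 0, 1]),
    (110, [0, 1, 0, 2, 4, 2, 1, 0, 4, 2, 3, 1, 2, 1, 0, 2, 1, 2, 3, 0, 1, 4, 3, 2, 1, 3, 2, 4, 3, 2, 3, 1, 2, 3, 4, 3, 0, 4, 0, 1, 4, 2, 3, 2, 1, 2, 4]),
    (172, [1, 0, 3, 2, 3, 4, 2, 1, 3, 2, 3, 0, 4, 1, 0, 4, 2, 3, 1, 2, 1, 0, 2, 1, 2, 3, 0, 3, 2, 1, 2, 4, 0, 1, 2, 1, 3, 2]),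
    (184, [1, 2, 3, 2, 1, 2, 3, 1, 4, 2, 3, 1, 0, 2, 3, 4, 0, 3, 1, 2, 4, 2, 1, 3, 1, 2, 3, 2, 3, 1, 2, 4, 1, 3, 1, 3, 2, 0, 1, 0, 1, 2, 0, 2, 0]),
    (185, [0, 1, 0, 2, 4, 2, 1, 0, 4, 2, 3, 1, 2, 1, 0, 2, 1, 2, 3, 0, 1, 2, 3, 1, 2, 1, 2, 1, 4, 1, 2, 4, 0, 3, 1, 4, 3, 2, 3, 0, 4, 0, 3, 2, 1, 3, 0, 1])])]

theorem lifts_ok : lifts.OK := by
  refine ⟨?_, ?_, by decide +kernel⟩
  · intro c hc
    by_cases h0 : c < 1764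
    · exact allFrom_spec pointRange0 c (by omega) (by omega)
    by_cases h1764 : c < 3528
    · exact allFrom_spec pointRange1764 c (by omega) (by omega)
    by_cases h3528 : c < 5292
    · exact allFrom_spec pointRange3528 c (by omega) (by omega)
    by_cases h5292 : c < 7056
    · exact allFrom_spec pointRange5292 c (by omega) (by omega)
    by_cases h7056 : c < 8820
    · exact allFrom_spec pointRange7056 c (by omega) (by omega)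
    by_cases h8820 : c < 10584
    · exact allFrom_spec pointRange8820 c (by omega) (by omega)
    by_cases h10584 : c < 12348
    · exact allFrom_spec pointRange10584 c (by omega) (by omega)
    by_cases h12348 : c < 14112
    · exact allFrom_spec pointRange12348 c (by omega) (by omega)
    by_cases h14112 : c < 15876
    · exact allFrom_spec pointRange14112 c (by omega) (by omega)
    by_cases h15876 : c < 17640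
    · exact allFrom_spec pointRange15876 c (by omega) (by omega)
    by_cases h17640 : c < 19404
    · exact allFrom_spec pointRange17640 c (by omega) (by omega)
    by_cases h19404 : c < 21168
    · exact allFrom_spec pointRange19404 c (by omega) (by omega)
    by_cases h21168 : c < 22932
    · exact allFrom_spec pointRange21168 c (by omega) (by omega)
    by_cases h22932 : c < 24696
    · exact allFrom_spec pointRange22932 c (by omega) (by omega)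
    by_cases h24696 : c < 26460
    · exact allFrom_spec pointRange24696 c (by omega) (by omega)
    by_cases h26460 : c < 28224
    · exact allFrom_spec pointRange26460 c (by omega) (by omega)
    by_cases h28224 : c < 29988
    · exact allFrom_spec pointRange28224 c (by omega) (by omega)
    by_cases h29988 : c < 31752
    · exact allFrom_spec pointRange29988 c (by omega) (by omega)
    by_cases h31752 : c < 33516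
    · exact allFrom_spec pointRange31752 c (by omega) (by omega)
    by_cases h33516 : c < 35280
    · exact allFrom_spec pointRange33516 c (by omega) (by omega)
    by_cases h35280 : c < 37044
    · exact allFrom_spec pointRange35280 c (by omega) (by omega)
    by_cases h37044 : c < 38808
    · exact allFrom_spec pointRange37044 c (by omega) (by omega)
    by_cases h38808 : c < 40572
    · exact allFrom_spec pointRange38808 c (by omega) (by omega)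
    by_cases h40572 : c < 42336
    · exact allFrom_spec pointRange40572 c (by omega) (by omega)
    by_cases h42336 : c < 44100
    · exact allFrom_spec pointRange42336 c (by omega) (by omega)
    by_cases h44100 : c < 45864
    · exact allFrom_spec pointRange44100 c (by omega) (by omega)
    by_cases h45864 : c < 47628
    · exact allFrom_spec pointRange45864 c (by omega) (by omega)
    by_cases h47628 : c < 49392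
    · exact allFrom_spec pointRange47628 c (by omega) (by omega)
    by_cases h49392 : c < 51156
    · exact allFrom_spec pointRange49392 c (by omega) (by omega)
    by_cases h51156 : c < 52920
    · exact allFrom_spec pointRange51156 c (by omega) (by omega)
    by_cases h52920 : c < 54684
    · exact allFrom_spec pointRange52920 c (by omega) (by omega)
    by_cases h54684 : c < 56448
    · exact allFrom_spec pointRange54684 c (by omega) (by omega)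
    by_cases h56448 : c < 58212
    · exact allFrom_spec pointRange56448 c (by omega) (by omega)
    by_cases h58212 : c < 59976
    · exact allFrom_spec pointRange58212 c (by omega) (by omega)
    by_cases h59976 : c < 61740
    · exact allFrom_spec pointRange59976 c (by omega) (by omega)
    by_cases h61740 : c < 63504
    · exact allFrom_spec pointRange61740 c (by omega) (by omega)
    by_cases h63504 : c < 65268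
    · exact allFrom_spec pointRange63504 c (by omega) (by omega)
    exact allFrom_spec pointRange65268 c (by omega) (by change c < 66825 at hc; omega)
  · intro c hc
    by_cases h0 : c < 246
    · exact allFrom_spec repRange0 c (by omega) (by omega)
    by_cases h246 : c < 492
    · exact allFrom_spec repRange246 c (by omega) (by omega)
    by_cases h492 : c < 738
    · exact allFrom_spec repRange492 c (by omega) (by omega)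
    by_cases h738 : c < 984
    · exact allFrom_spec repRange738 c (by omega) (by omega)
    by_cases h984 : c < 1230
    · exact allFrom_spec repRange984 c (by omega) (by omega)
    by_cases h1230 : c < 1476
    · exact allFrom_spec repRange1230 c (by omega) (by omega)
    by_cases h1476 : c < 1722
    · exact allFrom_spec repRange1476 c (by omega) (by omega)
    by_cases h1722 : c < 1968
    · exact allFrom_spec repRange1722 c (by omega) (by omega)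
    by_cases h1968 : c < 2214
    · exact allFrom_spec repRange1968 c (by omega) (by omega)
    by_cases h2214 : c < 2460
    · exact allFrom_spec repRange2214 c (by omega) (by omega)
    by_cases h2460 : c < 2706
    · exact allFrom_spec repRange2460 c (by omega) (by omega)
    by_cases h2706 : c < 2952
    · exact allFrom_spec repRange2706 c (by omega) (by omega)
    by_cases h2952 : c < 3198
    · exact allFrom_spec repRange2952 c (by omega) (by omega)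
    by_cases h3198 : c < 3444
    · exact allFrom_spec repRange3198 c (by omega) (by omega)
    by_cases h3444 : c < 3690
    · exact allFrom_spec repRange3444 c (by omega) (by omega)
    by_cases h3690 : c < 3936
    · exact allFrom_spec repRange3690 c (by omega) (by omega)
    by_cases h3936 : c < 4182
    · exact allFrom_spec repRange3936 c (by omega) (by omega)
    by_cases h4182 : c < 4428
    · exact allFrom_spec repRange4182 c (by omega) (by omega)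
    by_cases h4428 : c < 4674
    · exact allFrom_spec repRange4428 c (by omega) (by omega)
    by_cases h4674 : c < 4920
    · exact allFrom_spec repRange4674 c (by omega) (by omega)
    by_cases h4920 : c < 5166
    · exact allFrom_spec repRange4920 c (by omega) (by omega)
    by_cases h5166 : c < 5412
    · exact allFrom_spec repRange5166 c (by omega) (by omega)
    by_cases h5412 : c < 5658
    · exact allFrom_spec repRange5412 c (by omega) (by omega)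
    by_cases h5658 : c < 5904
    · exact allFrom_spec repRange5658 c (by omega) (by omega)
    by_cases h5904 : c < 6150
    · exact allFrom_spec repRange5904 c (by omega) (by omega)
    by_cases h6150 : c < 6396
    · exact allFrom_spec repRange6150 c (by omega) (by omega)
    by_cases h6396 : c < 6642
    · exact allFrom_spec repRange6396 c (by omega) (by omega)
    by_cases h6642 : c < 6888
    · exact allFrom_spec repRange6642 c (by omega) (by omega)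
    by_cases h6888 : c < 7134
    · exact allFrom_spec repRange6888 c (by omega) (by omega)
    by_cases h7134 : c < 7380
    · exact allFrom_spec repRange7134 c (by omega) (by omega)
    by_cases h7380 : c < 7626
    · exact allFrom_spec repRange7380 c (by omega) (by omega)
    by_cases h7626 : c < 7872
    · exact allFrom_spec repRange7626 c (by omega) (by omega)
    by_cases h7872 : c < 8118
    · exact allFrom_spec repRange7872 c (by omega) (by omega)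
    by_cases h8118 : c < 8364
    · exact allFrom_spec repRange8118 c (by omega) (by omega)
    by_cases h8364 : c < 8610
    · exact allFrom_spec repRange8364 c (by omega) (by omega)
    by_cases h8610 : c < 8856
    · exact allFrom_spec repRange8610 c (by omega) (by omega)
    by_cases h8856 : c < 9102
    · exact allFrom_spec repRange8856 c (by omega) (by omega)
    by_cases h9102 : c < 9348
    · exact allFrom_spec repRange9102 c (by omega) (by omega)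
    by_cases h9348 : c < 9594
    · exact allFrom_spec repRange9348 c (by omega) (by omega)
    by_cases h9594 : c < 9840
    · exact allFrom_spec repRange9594 c (by omega) (by omega)
    by_cases h9840 : c < 10086
    · exact allFrom_spec repRange9840 c (by omega) (by omega)
    by_cases h10086 : c < 10332
    · exact allFrom_spec repRange10086 c (by omega) (by omega)
    by_cases h10332 : c < 10578
    · exact allFrom_spec repRange10332 c (by omega) (by omega)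
    by_cases h10578 : c < 10824
    · exact allFrom_spec repRange10578 c (by omega) (by omega)
    by_cases h10824 : c < 11070
    · exact allFrom_spec repRange10824 c (by omega) (by omega)
    by_cases h11070 : c < 11316
    · exact allFrom_spec repRange11070 c (by omega) (by omega)
    by_cases h11316 : c < 11562
    · exact allFrom_spec repRange11316 c (by omega) (by omega)
    by_cases h11562 : c < 11808
    · exact allFrom_spec repRange11562 c (by omega) (by omega)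
    by_cases h11808 : c < 12054
    · exact allFrom_spec repRange11808 c (by omega) (by omega)
    by_cases h12054 : c < 12300
    · exact allFrom_spec repRange12054 c (by omega) (by omega)
    by_cases h12300 : c < 12546
    · exact allFrom_spec repRange12300 c (by omega) (by omega)
    by_cases h12546 : c < 12792
    · exact allFrom_spec repRange12546 c (by omega) (by omega)
    by_cases h12792 : c < 13038
    · exact allFrom_spec repRange12792 c (by omega) (by omega)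
    by_cases h13038 : c < 13284
    · exact allFrom_spec repRange13038 c (by omega) (by omega)
    by_cases h13284 : c < 13530
    · exact allFrom_spec repRange13284 c (by omega) (by omega)
    by_cases h13530 : c < 13776
    · exact allFrom_spec repRange13530 c (by omega) (by omega)
    by_cases h13776 : c < 14022
    · exact allFrom_spec repRange13776 c (by omega) (by omega)
    by_cases h14022 : c < 14268
    · exact allFrom_spec repRange14022 c (by omega) (by omega)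
    by_cases h14268 : c < 14514
    · exact allFrom_spec repRange14268 c (by omega) (by omega)
    by_cases h14514 : c < 14760
    · exact allFrom_spec repRange14514 c (by omega) (by omega)
    by_cases h14760 : c < 15006
    · exact allFrom_spec repRange14760 c (by omega) (by omega)
    by_cases h15006 : c < 15252
    · exact allFrom_spec repRange15006 c (by omega) (by omega)
    by_cases h15252 : c < 15498
    · exact allFrom_spec repRange15252 c (by omega) (by omega)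
    by_cases h15498 : c < 15744
    · exact allFrom_spec repRange15498 c (by omega) (by omega)
    by_cases h15744 : c < 15990
    · exact allFrom_spec repRange15744 c (by omega) (by omega)
    by_cases h15990 : c < 16236
    · exact allFrom_spec repRange15990 c (by omega) (by omega)
    by_cases h16236 : c < 16482
    · exact allFrom_spec repRange16236 c (by omega) (by omega)
    by_cases h16482 : c < 16728
    · exact allFrom_spec repRange16482 c (by omega) (by omega)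
    by_cases h16728 : c < 16974
    · exact allFrom_spec repRange16728 c (by omega) (by omega)
    by_cases h16974 : c < 17220
    · exact allFrom_spec repRange16974 c (by omega) (by omega)
    by_cases h17220 : c < 17466
    · exact allFrom_spec repRange17220 c (by omega) (by omega)
    by_cases h17466 : c < 17712
    · exact allFrom_spec repRange17466 c (by omega) (by omega)
    by_cases h17712 : c < 17958
    · exact allFrom_spec repRange17712 c (by omega) (by omega)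
    by_cases h17958 : c < 18204
    · exact allFrom_spec repRange17958 c (by omega) (by omega)
    by_cases h18204 : c < 18450
    · exact allFrom_spec repRange18204 c (by omega) (by omega)
    by_cases h18450 : c < 18696
    · exact allFrom_spec repRange18450 c (by omega) (by omega)
    by_cases h18696 : c < 18942
    · exact allFrom_spec repRange18696 c (by omega) (by omega)
    by_cases h18942 : c < 19188
    · exact allFrom_spec repRange18942 c (by omega) (by omega)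
    by_cases h19188 : c < 19434
    · exact allFrom_spec repRange19188 c (by omega) (by omega)
    by_cases h19434 : c < 19680
    · exact allFrom_spec repRange19434 c (by omega) (by omega)
    by_cases h19680 : c < 19926
    · exact allFrom_spec repRange19680 c (by omega) (by omega)
    by_cases h19926 : c < 20172
    · exact allFrom_spec repRange19926 c (by omega) (by omega)
    by_cases h20172 : c < 20418
    · exact allFrom_spec repRange20172 c (by omega) (by omega)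
    by_cases h20418 : c < 20664
    · exact allFrom_spec repRange20418 c (by omega) (by omega)
    by_cases h20664 : c < 20910
    · exact allFrom_spec repRange20664 c (by omega) (by omega)
    by_cases h20910 : c < 21156
    · exact allFrom_spec repRange20910 c (by omega) (by omega)
    by_cases h21156 : c < 21402
    · exact allFrom_spec repRange21156 c (by omega) (by omega)
    by_cases h21402 : c < 21648
    · exact allFrom_spec repRange21402 c (by omega) (by omega)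
    by_cases h21648 : c < 21894
    · exact allFrom_spec repRange21648 c (by omega) (by omega)
    by_cases h21894 : c < 22140
    · exact allFrom_spec repRange21894 c (by omega) (by omega)
    exact allFrom_spec repRange22140 c (by omega) (by change c < 22275 at hc; omega)

theorem sat_check : satOK 275 9 eltRows 643 basePts genWords rels5 genOrbits = true := by decide +kernel

theorem orbit_count : (transIdx.map List.length).prod ≤ (genOrbits.map fun e => e.2.length).prod := by decide +kernel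

/-- The cover. -/
theorem exists_cover (hperf : commutator ↥McLPerm.P = ⊤) :
    ∃ (Γ : Type) (_ : Group Γ) (_ : Finite Γ) (σ : Γ →* ↥McLPerm.P),
      Cfsg.IsStemExtension σ ∧ IsCyclic σ.ker ∧ Nat.card σ.ker = 3 := by
  obtain ⟨g, hsat, hgen⟩ := packed.exists_sat sat_check orbit_count
  have hr : lifts.rels.map Prod.fst = rels5 := by decide +kernel
  refine Cover.exists_cover lifts_ok hperf (g := g) (by rw [hr]; exact hsat) hgen ?_ (ps := [0]) ?_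
    (cs := [2, 2, 2, 0, 0]) (cr := [0, 0, 0, 0, 2, 0, 0, 0, 0, 0, 0, 0, 0, 0, 0, 0, 0]) ?_
  · rw [hr, packed.card, chain_size]
    exact card5
  · decide +kernel
  · decide +kernel

end CfsgLib.Spor.Mults.McLaughlin
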