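import Cfsg.Agent.Lib.Spor.Mults.Transport
import Cfsg.Agent.Lib.Spor.Mults.McLaughlin.CoverBuild
import Cfsg.Agent.Lib.Spor.Mults.McLaughlin.Bound

/-!
The Schur multiplier of the McLaughlin group has order three.
-/

set_option autoImplicit false

namespace CfsgLib.Spor.Mults.McLaughlin

open Cfsg CfsgLib.Spor

theorem commutator_P : commutator ↥McLPerm.P = ⊤ := by
  haveI := McLPerm.isMcL_G0.1
  haveI : IsSimpleGroup ↥McLPerm.P := McLPerm.equivP.symm.isSimpleGroup
  exact commutator_eq_top_of_card (by rw [card_group]; norm_num)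

theorem multiplier_McL : Cfsg.HasCyclicSchurMultiplier ↥Spor.McL 3 := by
  obtain ⟨e⟩ := McLPerm.nonempty_equiv_McL
  exact hasCyclic_of e (exists_cover commutator_P) fun _ _ _ _ hσ =>
    cyclic_of_dvd_prime Nat.prime_three (card_ker_dvd hσ)

end CfsgLib.Spor.Mults.McLaughlin
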